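import Groth.Agent.AlgSp.K618.OnePoint
import Groth.Agent.AlgSp.K609.Diag
import Groth.Agent.Desc.QAffDesc

/-!
# Quasi-compact field-valued points

* `repWith_quasiCompact_of_qs` : for a sheaf with quasi-compact diagonal, `h_T ⟶ X` is quasi-compact if `T ⟶ S` is.
* `repWith_quasiCompact_of_etale` : a field-valued point of `X` whose image in `Y` is quasi-compact is quasi-compact,
  for `X ⟶ Y` étale.
* `repWith_quasiCompact_ofPt` : points of a quasi-compact chart.
-/

set_option autoImplicit false
universe u
open CategoryTheory CategoryTheory.Limits AlgebraicGeometry Opposite Topology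

namespace K618.QCPoint

open AlgSp K618.Sch K618.FieldFib K618.OnePoint

variable {S : Scheme.{u}}

theorem repWith_quasiCompact_of_qs {X : Sp S} (hX : IsQuasiSeparatedSp X) {T : Over S} (hT : QuasiCompact T.hom)
    (g : (yon S).obj T ⟶ X) : RepWith @QuasiCompact g := by
  refine ⟨Functor.relativelyRepresentable.of_diag hX.1 g, fun U V f fst snd sq => ?_⟩
  obtain ⟨fst, rfl⟩ := (yon S).map_surjective fst
  have h1 := K609.Diag.prop_of_repWith_diag @QuasiCompact hX sq
  have h2 : (pullback.lift fst.left snd.left ((Over.w fst).trans (Over.w snd).symm) :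
      V.left ⟶ pullback T.hom U.hom) ≫ pullback.snd T.hom U.hom = snd.left := pullback.lift_snd _ _ _
  change QuasiCompact snd.left
  rw [← h2]
  infer_instance

theorem descendsAlong_quasiCompact_fppf : MorphismProperty.DescendsAlong @QuasiCompact K613.Cover.fppf.{u} := by
  have := Groth.Agent.Desc.QAffDesc.quasiCompact_descendsAlong.{u}
  infer_instance

/-- A discrete compact set of points. -/
theorem finite_of_isCompact {E : Scheme.{u}} [DiscreteTopology E] (V : Set E) (hV : IsCompact V) : V.Finite :=
  hV.finite_of_discrete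

theorem repWith_quasiCompact_of_etale {X Y : Sp S} (hX : IsAlgSpace X) (f : X ⟶ Y) (hf : IsEtaleMor f)
    (q : FieldPt X) (hq : RepWith @QuasiCompact (q.toHom ≫ f)) : RepWith @QuasiCompact q.toHom := by
  obtain ⟨U, a, ha, has⟩ := hX.atlas
  obtain ⟨E, e, i, sq, -⟩ := exists_fibre_scheme q (hX.representable_from_yon _) a
  obtain ⟨E', i', fst', sq'⟩ := hq.1 (a ≫ f)
  obtain ⟨e', rfl⟩ := (yon S).map_surjective fst'
  have he' : Etale e'.left := (hf a ha).2 _ _ e' sq'.flip
  have hi' : QuasiCompact i'.left := hq.2 _ _ i' sq'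
  have hd : DiscreteTopology ↥E'.left := discreteTopology_of_etale_field (k := q.K) e'.left
  have hw : (yon S).map e ≫ q.toHom ≫ f = (yon S).map i ≫ a ≫ f := by
    rw [← Category.assoc, ← Category.assoc, sq.w]
  obtain ⟨j, hj⟩ := (yon S).map_surjective (sq'.lift _ _ hw)
  have hj1 : j ≫ e' = e := (yon S).map_injective (by rw [Functor.map_comp, hj, sq'.lift_fst])
  have hj2 : j ≫ i' = i := (yon S).map_injective (by rw [Functor.map_comp, hj, sq'.lift_snd])
  have hjm : Mono j := by
    refine ⟨fun x y hxy => (yon S).map_injective (sq.hom_ext ?_ ?_)⟩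
    · rw [← Functor.map_comp, ← Functor.map_comp, ← hj1, ← Category.assoc, hxy, Category.assoc]
    · rw [← Functor.map_comp, ← Functor.map_comp, ← hj2, ← Category.assoc, hxy, Category.assoc]
  have hjl : Mono j.left := inferInstance
  have hji : Function.Injective j.left := j.left.injective
  have hi : QuasiCompact i.left := by
    refine ⟨fun V hV hVc => ?_⟩
    have h1 : IsCompact (i'.left ⁻¹' V) := QuasiCompact.isCompact_preimage (f := i'.left) _ hV hVc
    have h2 : (i'.left ⁻¹' V).Finite := h1.finite_of_discrete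
    have h3 : i.left ⁻¹' V = j.left ⁻¹' (i'.left ⁻¹' V) := by
      rw [← hj2]
      rfl
    rw [h3]
    exact (h2.preimage hji.injOn).isCompact
  have h2 : K613.Cover.FSurj a := (K613.Cover.ESurj.of_repWith ha has).fSurj
  have h3 := descendsAlong_quasiCompact_fppf.{u}
  exact h2.repWith (Pr := @QuasiCompact) sq (hX.representable_from_yon _) ((repWith_yon_map_iff _ _).2 hi)

theorem repWith_quasiCompact_ofPt {X : Sp S} {U : Over S} (a : (yon S).obj U ⟶ X) (ha : RepWith @QuasiCompact a)
    (u : ↥U.left) : RepWith @QuasiCompact (FieldPt.ofPt a u).toHom := by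
  rw [FieldPt.toHom_ofPt]
  refine MorphismProperty.comp_mem _ _ _ ((repWith_yon_map_iff _ _).2 ?_) ha
  change QuasiCompact (U.left.fromSpecResidueField u)
  infer_instance

end K618.QCPoint
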