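import Mathlib.AlgebraicGeometry.Morphisms.FlatMono
import Mathlib.AlgebraicGeometry.Morphisms.QuasiFinite
import Mathlib.AlgebraicGeometry.Morphisms.Etale
import Mathlib.AlgebraicGeometry.Morphisms.UniversallyOpen
import Mathlib.RingTheory.Unramified.LocalStructure

/-!
# Scheme level lemmas: étale schemes over a field, monomorphisms to a field, specializations in fibres
-/

set_option autoImplicit false
universe u
open CategoryTheory CategoryTheory.Limits AlgebraicGeometry Opposite Topology

namespace K618.Sch

/-- A monomorphism from a nonempty scheme to the spectrum of a field is an isomorphism. -/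
theorem isIso_of_mono_to_field {k : Type u} [Field k] {E : Scheme.{u}} (f : E ⟶ Spec (CommRingCat.of k))
    [Mono f] [Nonempty E] : IsIso f := by
  have hinj : Function.Injective f := f.injective
  have : Subsingleton E := ⟨fun a b => hinj (Subsingleton.elim (α := PrimeSpectrum k) _ _)⟩
  have : QuasiCompact f := inferInstance
  have : Surjective f := ⟨fun y => ⟨Classical.arbitrary E, Subsingleton.elim (α := PrimeSpectrum k) _ _⟩⟩
  have : Flat f := inferInstance
  exact Flat.isIso_of_surjective_of_mono f

theorem locallyQuasiFinite_of_etale {X Y : Scheme.{u}} (f : X ⟶ Y) [Etale f] : LocallyQuasiFinite f where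
  quasiFinite_appLE {U} hU {V} hV e := by
    have h := HasRingHomProperty.appLE @AlgebraicGeometry.Etale f ‹_› ⟨U, hU⟩ ⟨V, hV⟩ e
    algebraize [(f.appLE U V e).hom]
    change Algebra.QuasiFinite Γ(Y, U) Γ(X, V)
    infer_instance

theorem discreteTopology_of_lqf_field {k : Type u} [Field k] {E : Scheme.{u}} (φ : E ⟶ Spec (CommRingCat.of k))
    [LocallyQuasiFinite φ] : DiscreteTopology E := by
  have h := φ.isDiscrete_preimage_singleton (default : Spec (CommRingCat.of k))
  have h2 : φ ⁻¹' {(default : Spec (CommRingCat.of k))} = Set.univ := by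
    ext x
    simp [Subsingleton.elim (φ x) default]
  rw [h2] at h
  exact isDiscrete_univ_iff.mp h

theorem discreteTopology_of_etale_field {k : Type u} [Field k] {E : Scheme.{u}} (φ : E ⟶ Spec (CommRingCat.of k))
    [Etale φ] : DiscreteTopology E := by
  have := locallyQuasiFinite_of_etale φ
  exact discreteTopology_of_lqf_field φ

theorem finite_of_etale_field {k : Type u} [Field k] {E : Scheme.{u}} (φ : E ⟶ Spec (CommRingCat.of k))
    [Etale φ] [CompactSpace E] : Finite E := by
  have := discreteTopology_of_etale_field φ
  exact finite_of_compact_of_discrete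

theorem isFinite_of_etale_field {k : Type u} [Field k] {E : Scheme.{u}} (φ : E ⟶ Spec (CommRingCat.of k))
    [Etale φ] [CompactSpace E] : IsFinite φ := by
  have := locallyQuasiFinite_of_etale φ
  have : QuasiCompact φ := inferInstance
  exact IsFinite.of_locallyQuasiFinite φ

theorem eq_of_specializes_of_eq {X Y : Scheme.{u}} (g : Y ⟶ X) [LocallyQuasiFinite g] {y y' : Y}
    (h : y ⤳ y') (he : g y = g y') : y = y' := by
  have hd := g.isDiscrete_preimage_singleton (g y')
  have : DiscreteTopology (g ⁻¹' {g y'}) := hd.to_subtype
  have h1 : (⟨y, he⟩ : g ⁻¹' {g y'}) ⤳ ⟨y', rfl⟩ := (subtype_specializes_iff _ _).2 h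
  exact congrArg Subtype.val h1.eq

theorem subsingleton_spec_field {k : Type u} [Field k] (a b : ↥(Spec (CommRingCat.of k))) : a = b :=
  Subsingleton.elim (α := PrimeSpectrum k) a b

end K618.Sch
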