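import Groth.Agent.AlgSp.K609.Points
import Groth.Agent.AlgSp.K618.Sch
import Groth.Prelude.Def_AlgSpDec
import Groth.Prelude.Def_AlgSp3

/-!
# Fibres of étale charts over field-valued points

* `exists_fibre_scheme` : the fibre product of a chart with a representable field-valued point.
* `finite_fibre` : the fibre of an étale chart from a quasi-compact scheme over a point represented by a quasi-compact
  morphism from the spectrum of a field is finite.
* `exists_specializes_lift` : generalizations lift along étale charts over such a point.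
* `factors_of_mono` : a field-valued point in the class of a mono field-valued point factors through it.
-/

set_option autoImplicit false
universe u
open CategoryTheory CategoryTheory.Limits AlgebraicGeometry Opposite Topology

namespace K618.FieldFib

open AlgSp K618.Sch

variable {S : Scheme.{u}} {F G H P : Sp S}

/-- The pullback of a chart along a representable field-valued point: a scheme `E` over `Spec k`, with the points of
`E` surjecting onto the fibre. -/
theorem exists_fibre_scheme {X : Sp S} (p : FieldPt X) (hp : Representable p.toHom) {U : Over S}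
    (a : (yon S).obj U ⟶ X) :
    ∃ (E : Over S) (e : E ⟶ p.pt) (i : E ⟶ U),
      IsPullback ((yon S).map e) ((yon S).map i) p.toHom a ∧
      (∀ u : ↥U.left, Points.ofPt a u = Points.mk p ↔ u ∈ Set.range i.left) := by
  obtain ⟨E, i, fst, sq⟩ := hp a
  obtain ⟨e, rfl⟩ := (yon S).map_surjective fst
  refine ⟨E, e, i, sq, fun u => ?_⟩
  let t : ↥p.pt.left := (IsLocalRing.closedPoint p.K : ↥(Spec (CommRingCat.of p.K)))
  have h1 : Points.mk p = Points.ofPt p.toHom t := (Points.ofPt_toHom p _).symm
  rw [h1, eq_comm, K609.Points.ofPt_eq_ofPt_iff sq t u]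
  constructor
  · rintro ⟨r, -, hr⟩
    exact ⟨r, hr⟩
  · rintro ⟨r, hr⟩
    exact ⟨r, Subsingleton.elim (α := PrimeSpectrum p.K) _ _, hr⟩

/-- Same, with the étale chart and the quasi-compact field-valued point. -/
theorem exists_fibre_scheme_etale {X : Sp S} (p : FieldPt X) (hq : RepWith @QuasiCompact p.toHom) {U : Over S}
    (a : (yon S).obj U ⟶ X) (ha : RepWith @Etale a) :
    ∃ (E : Over S) (e : E ⟶ p.pt) (i : E ⟶ U), Etale e.left ∧ QuasiCompact i.left ∧
      IsPullback ((yon S).map e) ((yon S).map i) p.toHom a ∧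
      (∀ u : ↥U.left, Points.ofPt a u = Points.mk p ↔ u ∈ Set.range i.left) := by
  obtain ⟨E, e, i, sq, h⟩ := exists_fibre_scheme p hq.1 a
  exact ⟨E, e, i, ha.2 _ _ e sq.flip, hq.2 a _ i sq, sq, h⟩

/-- The fibre of an étale chart from a quasi-compact scheme over a point represented by a quasi-compact map from the
spectrum of a field is finite. -/
theorem finite_fibre {X : Sp S} (p : FieldPt X) (hq : RepWith @QuasiCompact p.toHom) {U : Over S}
    (a : (yon S).obj U ⟶ X) (ha : RepWith @Etale a) [CompactSpace ↥U.left] :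
    (Points.ofPt a ⁻¹' {Points.mk p}).Finite := by
  obtain ⟨E, e, i, he, hi, sq, h⟩ := exists_fibre_scheme_etale p hq a ha
  have hE : CompactSpace ↥E.left := QuasiCompact.compactSpace_of_compactSpace i.left
  have hfin : Finite ↥E.left := finite_of_etale_field (k := p.K) e.left
  have h4 : Points.ofPt a ⁻¹' {Points.mk p} = Set.range i.left := by
    ext u
    exact h u
  rw [h4]
  exact Set.finite_range _

/-- Restriction of a chart to an open subscheme. -/
theorem repWith_etale_restrict {X : Sp S} {U : Over S} {a : (yon S).obj U ⟶ X} (ha : RepWith @Etale a)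
    (W : U.left.Opens) :
    RepWith @Etale ((yon S).map (Over.homMk W.ι rfl : Over.mk (W.ι ≫ U.hom) ⟶ U) ≫ a) := by
  refine (RepWith @Etale).comp_mem _ _ ?_ ha
  refine (repWith_yon_map_iff _ _).2 ?_
  change Etale W.ι
  infer_instance

theorem repWith_etale_comp {X : Sp S} {U V : Over S} {a : (yon S).obj U ⟶ X} (ha : RepWith @Etale a)
    (f : V ⟶ U) (hf : Etale f.left) : RepWith @Etale ((yon S).map f ≫ a) :=
  (RepWith @Etale).comp_mem _ _ ((repWith_yon_map_iff _ _).2 hf) ha

/-- Generalizations lift along étale charts over a point represented by a quasi-compact field-valued point. -/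
theorem exists_specializes_lift {X : Sp S} (p : FieldPt X) (hq : RepWith @QuasiCompact p.toHom) {U : Over S}
    (a : (yon S).obj U ⟶ X) (ha : RepWith @Etale a) (u : ↥U.left) (hu : Points.mk p ⤳ Points.ofPt a u) :
    ∃ u' : ↥U.left, u' ⤳ u ∧ Points.ofPt a u' = Points.mk p := by
  -- an affine open neighbourhood of `u`
  obtain ⟨W, hW, hu', -⟩ := exists_isAffineOpen_mem_and_subset (x := u) (U := ⊤) trivial
  let V : Over S := Over.mk (W.ι ≫ U.hom)
  let j : V ⟶ U := Over.homMk W.ι rfl
  let b : (yon S).obj V ⟶ X := (yon S).map j ≫ a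
  have hb : RepWith @Etale b := repWith_etale_restrict ha W
  have : CompactSpace ↥V.left := (isCompact_iff_compactSpace.1 hW.isCompact : CompactSpace W)
  have hfin := finite_fibre p hq b hb
  -- the image in `U` of the fibre
  have hfin' := hfin.image (fun v : ↥V.left => j.left v)
  by_contra hcon
  push Not at hcon
  -- the complement of the closure of the fibre in `W`
  let C : Set ↥U.left := ⋃ y ∈ (fun v : ↥V.left => j.left v) '' (Points.ofPt b ⁻¹' {Points.mk p}), closure {y}
  have hC : IsClosed C := hfin'.isClosed_biUnion fun _ _ => isClosed_closure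
  have huC : u ∉ C := by
    intro h
    simp only [C, Set.mem_iUnion] at h
    obtain ⟨y, ⟨v, hv, rfl⟩, hy⟩ := h
    refine hcon _ (specializes_iff_mem_closure.2 hy) ?_
    rw [← K609.Points.ofPt_yon_map_comp]
    exact hv
  have hO : IsOpen (Points.ofPt a '' ((W : Set ↥U.left) ∩ Cᶜ)) :=
    K609.Points.isOpenMap_ofPt ha _ (W.isOpen.inter hC.isOpen_compl)
  obtain ⟨y, ⟨hyW, hyC⟩, hy⟩ := hu.mem_open hO ⟨u, ⟨hu', huC⟩, rfl⟩
  apply hyC
  simp only [C, Set.mem_iUnion]
  refine ⟨y, ⟨⟨y, hyW⟩, ?_, rfl⟩, subset_closure rfl⟩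
  change Points.ofPt b (⟨y, hyW⟩ : W) = Points.mk p
  rw [← hy, K609.Points.ofPt_yon_map_comp]
  rfl

/-- The projection from the pullback along a mono chart, as a morphism of schemes, is mono. -/
theorem mono_left_of_isPullback {X F : Sp S} {f : F ⟶ X} [Mono f] {U E : Over S} {a : (yon S).obj U ⟶ X}
    {fst : (yon S).obj E ⟶ F} {i : E ⟶ U} (sq : IsPullback fst ((yon S).map i) f a) : Mono i.left := by
  have h1 : Mono ((yon S).map i) :=
    MorphismProperty.of_isPullback (P := MorphismProperty.monomorphisms (Sp S)) sq ‹Mono f›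
  have h2 : Mono i := (yon S).mono_of_mono_map h1
  exact inferInstance

/-- A field-valued point in the class of a mono field-valued point factors through it. -/
theorem factors_of_mono {X : Sp S} (p q : FieldPt X) (hm : Mono p.toHom) (hp : Representable p.toHom)
    (h : Points.mk q = Points.mk p) : ∃ c : q.pt ⟶ p.pt, (yon S).map c ≫ p.toHom = q.toHom := by
  obtain ⟨E, e, i, sq, hE⟩ := exists_fibre_scheme p hp q.toHom
  obtain ⟨r, hr⟩ := (hE _).1 ((Points.ofPt_toHom q (IsLocalRing.closedPoint q.K)).trans h)
  have hne : Nonempty ↥E.left := ⟨r⟩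
  have hmi : Mono i.left := mono_left_of_isPullback sq
  have hii : IsIso i.left := isIso_of_mono_to_field (k := q.K) i.left
  have hi : IsIso i := by
    have : IsIso ((Over.forget S).map i) := hii
    exact isIso_of_reflects_iso i (Over.forget S)
  refine ⟨inv i ≫ e, ?_⟩
  rw [Functor.map_comp, Category.assoc, sq.w, ← Category.assoc, ← Functor.map_comp, IsIso.inv_hom_id,
    CategoryTheory.Functor.map_id, Category.id_comp]

/-- Every point of an algebraic space is hit by an étale chart. -/
theorem exists_chart_point {X : Sp S} (hX : IsAlgSpace X) (x : Points X) :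
    ∃ (U : Over S) (a : (yon S).obj U ⟶ X) (u : ↥U.left), RepWith @Etale a ∧ RepWith @Surjective a ∧
      Points.ofPt a u = x := by
  obtain ⟨U, a, ha, hs⟩ := hX.atlas
  obtain ⟨u, hu⟩ := K609.Points.surjective_ofPt_of_repWith_surjective hs x
  exact ⟨U, a, u, ha, hs, hu⟩

/-- Chart diagrams through a given point of a given chart of the target. -/
theorem exists_chart_diagram {X Y : Sp S} (hY : IsAlgSpace Y) (f : Y ⟶ X) {U : Over S}
    (b : (yon S).obj U ⟶ X) (hb : RepWith @Etale b) (u : ↥U.left) (y : Points Y)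
    (hy : Points.map f y = Points.ofPt b u) :
    ∃ (V : Over S) (a : (yon S).obj V ⟶ Y) (g : V ⟶ U) (v : ↥V.left), RepWith @Etale a ∧
      a ≫ f = (yon S).map g ≫ b ∧ Points.ofPt a v = y ∧ g.left v = u := by
  obtain ⟨W, c, w, hc, -, hw⟩ := exists_chart_point hY y
  obtain ⟨V, i, fst, sq⟩ := hb.1 (c ≫ f)
  obtain ⟨g, rfl⟩ := (yon S).map_surjective fst
  have hi : Etale i.left := hb.2 _ _ i sq
  have h1 : Points.ofPt b u = Points.ofPt (c ≫ f) w := by
    rw [← Points.map_ofPt, hw, hy]
  obtain ⟨v, hv1, hv2⟩ := (K609.Points.ofPt_eq_ofPt_iff sq u w).1 h1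
  refine ⟨V, (yon S).map i ≫ c, g, v, repWith_etale_comp hc i hi, ?_, ?_, hv1⟩
  · rw [Category.assoc, sq.w]
  · rw [K609.Points.ofPt_yon_map_comp, hv2, hw]

/-- Generalizations lift along flat morphisms over a point represented by a quasi-compact field-valued point. -/
theorem exists_specializes_lift_of_flat {X Y : Sp S} (hX : IsAlgSpace X) (hY : IsAlgSpace Y) (f : Y ⟶ X)
    (hf : LocP @Flat f) (p : FieldPt X) (hq : RepWith @QuasiCompact p.toHom) (y : Points Y)
    (h : Points.mk p ⤳ Points.map f y) :
    ∃ y' : Points Y, y' ⤳ y ∧ Points.map f y' = Points.mk p := by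
  obtain ⟨U, b, u, hb, -, hu⟩ := exists_chart_point hX (Points.map f y)
  obtain ⟨V, a, g, v, ha, hw, hv, hgv⟩ := exists_chart_diagram hY f b hb u y hu.symm
  obtain ⟨u', hu', hu'x⟩ := exists_specializes_lift p hq b hb u (hu ▸ h)
  have : Flat g.left := hf a b g ha hb hw
  rw [← hgv] at hu'
  obtain ⟨v', hv', rfl⟩ := Flat.generalizingMap g.left hu'
  refine ⟨Points.ofPt a v', ?_, ?_⟩
  · rw [← hv]
    exact hv'.map (Points.continuous_ofPt a)
  · rw [Points.map_ofPt, hw, K609.Points.ofPt_yon_map_comp, hu'x]

/-- The point of `F` defined by a point of a scheme `V` with a mono quasi-compact `h_V ⟶ F` has a mono quasi-compact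
representative. -/
theorem exists_mono_qc_of_mono_qc_chart {F : Sp S} {V : Over S} (j : (yon S).obj V ⟶ F) [Mono j]
    (hj : RepWith @QuasiCompact j) (v : ↥V.left) :
    ∃ p : FieldPt F, Points.mk p = Points.ofPt j v ∧ Mono p.toHom ∧ RepWith @QuasiCompact p.toHom := by
  refine ⟨FieldPt.ofPt j v, rfl, ?_, ?_⟩
  · rw [FieldPt.toHom_ofPt]
    let c : Over.mk (V.left.fromSpecResidueField v ≫ V.hom) ⟶ V := Over.homMk (V.left.fromSpecResidueField v) rfl
    have h1 : Mono c.left := inferInstanceAs (Mono (V.left.fromSpecResidueField v))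
    have h2 : Mono c := Over.mono_of_mono_left c
    exact mono_comp ((yon S).map c) j
  · rw [FieldPt.toHom_ofPt]
    refine MorphismProperty.comp_mem _ _ _ ((repWith_yon_map_iff _ _).2 ?_) hj
    change QuasiCompact (V.left.fromSpecResidueField v)
    infer_instance

/-- The source of a representable morphism to a decent sheaf is decent. -/
theorem isDecent_of_representable {F G : Sp S} (f : F ⟶ G) (hf : Representable f) (hG : IsDecent G) :
    IsDecent F := by
  intro x
  obtain ⟨p, hp, hm, hq⟩ := hG (Points.map f x)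
  obtain ⟨V, snd, fst, sq⟩ := hf p.toHom
  obtain ⟨z, hz, -⟩ := K609.Points.exists_of_isPullback sq x
    (Points.ofScheme p.pt (IsLocalRing.closedPoint p.K : ↥(Spec (CommRingCat.of p.K)))) (by
      rw [← Points.ofPt_eq_map_ofScheme, ← hp]
      exact (Points.ofPt_toHom p _).symm)
  obtain ⟨v, rfl⟩ := K609.Points.ofScheme_surjective V z
  rw [← Points.ofPt_eq_map_ofScheme] at hz
  have h1 : Mono fst := MorphismProperty.of_isPullback (P := MorphismProperty.monomorphisms (Sp S)) sq.flip hm
  have h2 : RepWith @QuasiCompact fst := MorphismProperty.of_isPullback (P := RepWith @QuasiCompact) sq.flip hq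
  obtain ⟨q, hq1, hq2⟩ := exists_mono_qc_of_mono_qc_chart fst h2 v
  exact ⟨q, hq1.trans hz, hq2⟩

end K618.FieldFib
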