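import Groth.Agent.AlgSp.K618.TopDim
import Groth.Agent.AlgSp.K618.FieldFib
import Groth.Agent.AlgSp.K621.Decent
import Groth.Prelude.Def_Flat

/-!
# Dimension of algebraic spaces
-/

set_option autoImplicit false
universe u
open CategoryTheory CategoryTheory.Limits AlgebraicGeometry Opposite Topology TopologicalSpace Order

namespace K618.Dim

open AlgSp K618.Sch K618.FieldFib K618.TopDim

variable {S : Scheme.{u}}

/-! ### Scheme level -/

theorem dim_le_of_flat_surjective {X Y : Scheme.{u}} (f : X ⟶ Y) [Flat f] [Surjective f] :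
    topologicalKrullDim Y ≤ topologicalKrullDim X :=
  dim_le_of_lift f f.continuous f.surjective fun _ _ h => by
    obtain ⟨a', h1, h2⟩ := Flat.generalizingMap f h
    exact ⟨a', h1, h2⟩

theorem dim_le_of_lqf {X Y : Scheme.{u}} (f : X ⟶ Y) [LocallyQuasiFinite f] :
    topologicalKrullDim X ≤ topologicalKrullDim Y :=
  dim_le_of_fibres f f.continuous fun _ _ h he => eq_of_specializes_of_eq f h he

theorem stalkDim_le_of_flat {X Y : Scheme.{u}} (f : X ⟶ Y) [Flat f] (x : X) :
    ringKrullDim (Y.presheaf.stalk (f x)) ≤ ringKrullDim (X.presheaf.stalk x) := by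
  rw [ringKrullDim_stalk_eq_coheight, ringKrullDim_stalk_eq_coheight]
  refine WithBot.coe_le_coe.2 (coheight_apply_le (fun x : X => f x) ?_ ?_ x)
  · intro a b hab
    exact Specializes.map (show b ⤳ a from hab) f.continuous
  · intro a b hab
    obtain ⟨a', h1, h2⟩ := Flat.generalizingMap f (show b ⤳ f a from hab.le)
    exact ⟨a', h1, h2⟩

theorem stalkDim_le_of_lqf {X Y : Scheme.{u}} (f : X ⟶ Y) [LocallyQuasiFinite f] (x : X) :
    ringKrullDim (X.presheaf.stalk x) ≤ ringKrullDim (Y.presheaf.stalk (f x)) := by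
  rw [ringKrullDim_stalk_eq_coheight, ringKrullDim_stalk_eq_coheight]
  refine WithBot.coe_le_coe.2 (coheight_le_coheight_apply_of_strictMono (fun x : X => f x) ?_ x)
  intro a b hab
  have h1 : b ⤳ a := hab.le
  have h2 : f a ≤ f b := h1.map f.continuous
  refine lt_iff_le_not_ge.2 ⟨h2, fun h3 => ?_⟩
  have h4 : f b = f a := ((h1.map f.continuous).antisymm h3).eq
  exact hab.ne (eq_of_specializes_of_eq f h1 h4).symm

/-! ### Algebraic spaces -/

/-- The fibre product `U ×_Y V` of a chart of `X` and a chart of `Y`. -/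
theorem exists_common_chart {X Y : Sp S} (f : X ⟶ Y) {U V : Over S} {a : (yon S).obj U ⟶ X}
    {b : (yon S).obj V ⟶ Y} (hb : RepWith @Etale b) :
    ∃ (W : Over S) (g : W ⟶ U) (h : W ⟶ V), IsPullback ((yon S).map h) ((yon S).map g) b (a ≫ f) ∧
      Etale g.left := by
  obtain ⟨W, g, fst, sq⟩ := hb.1 (a ≫ f)
  obtain ⟨h, rfl⟩ := (yon S).map_surjective fst
  exact ⟨W, g, h, sq, hb.2 _ _ g sq⟩

theorem dim_le_dim {X Y : Sp S} (hY : IsAlgSpace Y) (f : X ⟶ Y)
    (hf : LocP (@LocallyQuasiFinite ⊓ @LocallyOfFiniteType) f) : dim X ≤ dim Y := by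
  refine iSup_le fun U => iSup_le fun a => iSup_le fun ha => ?_
  obtain ⟨V, b, hb, hbs⟩ := hY.atlas
  obtain ⟨W, g, h, sq, hg⟩ := exists_common_chart f (a := a) hb
  have hgs : Surjective g.left := hbs.2 _ _ g sq
  have h1 : LocallyQuasiFinite h.left := by
    have := hf ((yon S).map g ≫ a) b h (repWith_etale_comp ha g hg) hb (by
      rw [Category.assoc]; exact sq.w.symm)
    exact this.1
  calc topologicalKrullDim ↥U.left ≤ topologicalKrullDim ↥W.left := dim_le_of_flat_surjective g.left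
    _ ≤ topologicalKrullDim ↥V.left := dim_le_of_lqf h.left
    _ ≤ dim Y := le_iSup_of_le V (le_iSup_of_le b (le_iSup_of_le hb le_rfl))

theorem stalkDim_le {X Y : Sp S} (f : X ⟶ Y)
    (hf : LocP (@LocallyQuasiFinite ⊓ @LocallyOfFiniteType) f) {U V : Over S} {a : (yon S).obj U ⟶ X}
    {b : (yon S).obj V ⟶ Y} (ha : RepWith @Etale a) (hb : RepWith @Etale b) (u : ↥U.left) (v : ↥V.left)
    (hv : Points.ofPt b v = Points.map f (Points.ofPt a u)) :
    ringKrullDim (U.left.presheaf.stalk u) ≤ ringKrullDim (V.left.presheaf.stalk v) := by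
  obtain ⟨W, g, h, sq, hg⟩ := exists_common_chart f (a := a) hb
  have h1 : LocallyQuasiFinite h.left := by
    have := hf ((yon S).map g ≫ a) b h (repWith_etale_comp ha g hg) hb (by
      rw [Category.assoc]; exact sq.w.symm)
    exact this.1
  rw [Points.map_ofPt] at hv
  obtain ⟨w, rfl, rfl⟩ := (K609.Points.ofPt_eq_ofPt_iff sq v u).1 hv
  exact (stalkDim_le_of_flat g.left w).trans (stalkDim_le_of_lqf h.left w)

end K618.Dim
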