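import Groth.Agent.AlgSp.K618.OnePoint
import Groth.Agent.AlgSp.K613.Cover
import Groth.Agent.Desc.MorDescent

/-!
# Points with algebraic or finite residue field over a closed point of the base
-/

set_option autoImplicit false
universe u
open CategoryTheory CategoryTheory.Limits AlgebraicGeometry Opposite Topology

namespace K618.ClosedPt

open AlgSp K618.Sch K618.FieldFib

variable {S : Scheme.{u}}

/-- A point of `U` which is the image of `Spec κ → U` with `Spec κ → U → T` integral is closed. -/
theorem isClosed_singleton_of_integral {U T : Scheme.{u}} {κ : Type u} [Field κ]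
    (c : Spec (CommRingCat.of κ) ⟶ U) (f : U ⟶ T) [IsIntegralHom (c ≫ f)] (t : ↥(Spec (CommRingCat.of κ))) :
    IsClosed ({c t} : Set U) := by
  have key : ∀ v : U, c t ⤳ v → v = c t := by
    intro v hv
    obtain ⟨W, hW, hvW, -⟩ := exists_isAffineOpen_mem_and_subset (x := v) (U := ⊤) trivial
    have hcW : c t ∈ W := hv.mem_open W.isOpen hvW
    have hr : Set.range c ⊆ W := by
      rintro _ ⟨t', rfl⟩
      rw [subsingleton_spec_field t' t]
      exact hcW
    let c' : Spec (CommRingCat.of κ) ⟶ (W : Scheme.{u}) := IsOpenImmersion.lift W.ι c (by simpa using hr)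
    have hc' : c' ≫ W.ι = c := IsOpenImmersion.lift_fac _ _ _
    have hWa : IsAffine (W : Scheme.{u}) := hW
    have h1 : IsIntegralHom (c' ≫ (W.ι ≫ f)) := by
      rw [← Category.assoc, hc']
      infer_instance
    have h2 : IsSeparated (W.ι ≫ f) := inferInstance
    have h3 : IsIntegralHom c' := IsIntegralHom.of_comp c' (W.ι ≫ f)
    have h4 : IsClosed (Set.range c') := c'.isClosedMap.isClosed_range
    have h5 : c' t ⤳ (⟨v, hvW⟩ : W) := by
      have h6 : W.ι (c' t) ⤳ W.ι (⟨v, hvW⟩ : W) := by
        rw [← Scheme.Hom.comp_apply, hc']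
        exact hv
      exact W.ι.isOpenEmbedding.isInducing.specializes_iff.1 h6
    obtain ⟨t', ht'⟩ := h5.mem_closed h4 ⟨t, rfl⟩
    have h7 : W.ι (c' t') = v := by rw [ht']; rfl
    rw [← h7, ← Scheme.Hom.comp_apply, hc', subsingleton_spec_field t' t]
  rw [← closure_eq_iff_isClosed]
  ext v
  rw [← specializes_iff_mem_closure]
  exact ⟨key v, fun h => specializes_of_eq h.symm⟩

/-- A finite-fibre criterion for closedness: `F` is closed if its points are closed and its traces on affine opens are
finite. -/
theorem isClosed_of_finite_affine {U : Scheme.{u}} (F : Set U) (h1 : ∀ x ∈ F, IsClosed ({x} : Set U))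
    (h2 : ∀ W : U.Opens, IsAffineOpen W → (F ∩ (W : Set U)).Finite) : IsClosed F := by
  rw [← isOpen_compl_iff, isOpen_iff_forall_mem_open]
  intro v hv
  obtain ⟨W, hW, hvW, -⟩ := exists_isAffineOpen_mem_and_subset (x := v) (U := ⊤) trivial
  have h3 : IsClosed (⋃ x ∈ F ∩ (W : Set U), ({x} : Set U)) :=
    (h2 W hW).isClosed_biUnion fun x hx => h1 x hx.1
  rw [Set.biUnion_of_singleton] at h3
  refine ⟨W ∩ (F ∩ (W : Set U))ᶜ, ?_, W.isOpen.inter h3.isOpen_compl, hvW, fun h => hv h.1⟩
  rintro y ⟨hyW, hyF⟩ hy
  exact hyF ⟨hy, hyW⟩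

/-- The fibre of an étale chart over a quasi-compact field-valued point, traced on affine opens, is finite. -/
theorem finite_fibre_inter {X : Sp S} (p : FieldPt X) (hq : RepWith @QuasiCompact p.toHom) {U : Over S}
    (a : (yon S).obj U ⟶ X) (ha : RepWith @Etale a) (W : U.left.Opens) (hW : IsAffineOpen W) :
    (Points.ofPt a ⁻¹' {Points.mk p} ∩ (W : Set ↥U.left)).Finite := by
  let V : Over S := Over.mk (W.ι ≫ U.hom)
  let j : V ⟶ U := Over.homMk W.ι rfl
  have hb : RepWith @Etale ((yon S).map j ≫ a) := repWith_etale_restrict ha W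
  have : CompactSpace ↥V.left := (isCompact_iff_compactSpace.1 hW.isCompact : CompactSpace W)
  have hfin := (finite_fibre p hq _ hb).image (fun v : ↥V.left => j.left v)
  refine hfin.subset ?_
  rintro y ⟨hy, hyW⟩
  refine ⟨(⟨y, hyW⟩ : W), ?_, rfl⟩
  change Points.ofPt ((yon S).map j ≫ a) (⟨y, hyW⟩ : W) = Points.mk p
  rw [K609.Points.ofPt_yon_map_comp]
  exact hy

/-- Points of étale charts over a field-valued point which is integral over the base are closed. -/
theorem isClosed_singleton_of_str {X : Sp S} (p : FieldPt X) (hp : Representable p.toHom)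
    (hint : IsIntegralHom p.str) {U : Over S} (a : (yon S).obj U ⟶ X) (ha : RepWith @Etale a) (u : ↥U.left)
    (hu : Points.ofPt a u = Points.mk p) : IsClosed ({u} : Set ↥U.left) := by
  obtain ⟨E, e, i, sq, hE⟩ := exists_fibre_scheme p hp a
  have he : Etale e.left := ha.2 _ _ e sq.flip
  obtain ⟨w, rfl⟩ := (hE u).1 hu
  let c := E.left.fromSpecResidueField w ≫ i.left
  have h1 : LocallyQuasiFinite e.left := locallyQuasiFinite_of_etale e.left
  let d : Spec (E.left.residueField w) ⟶ Spec (CommRingCat.of p.K) := E.left.fromSpecResidueField w ≫ e.left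
  have h2 : LocallyQuasiFinite d := inferInstanceAs (LocallyQuasiFinite (E.left.fromSpecResidueField w ≫ e.left))
  have h3 : IsFinite d := IsFinite.of_locallyQuasiFinite d
  have h4 : c ≫ U.hom = d ≫ p.str := by
    change (E.left.fromSpecResidueField w ≫ i.left) ≫ U.hom = (E.left.fromSpecResidueField w ≫ e.left) ≫ p.str
    rw [Category.assoc, Category.assoc, Over.w i]
    exact congrArg _ (Over.w e).symm
  have h5 : IsIntegralHom (c ≫ U.hom) := by
    rw [h4]
    infer_instance
  have h6 := isClosed_singleton_of_integral (κ := E.left.residueField w) c U.hom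
    (IsLocalRing.closedPoint (E.left.residueField w))
  have h7 : c (IsLocalRing.closedPoint (E.left.residueField w)) = i.left w := by
    change (E.left.fromSpecResidueField w ≫ i.left) _ = _
    rw [Scheme.Hom.comp_apply, Scheme.fromSpecResidueField_apply]
  rwa [h7] at h6

/-- The point of a decent algebraic space defined by a field-valued point which is integral over the base is closed. -/
theorem isClosed_point {X : Sp S} (hX : IsAlgSpace X) (hd : IsDecent X) (p : FieldPt X)
    (hint : IsIntegralHom p.str) : IsClosed ({Points.mk p} : Set (Points X)) := by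
  obtain ⟨U, a, ha, has⟩ := hX.atlas
  rw [← (K609.Points.isQuotientMap_ofPt ha has).isClosed_preimage]
  refine isClosed_of_finite_affine _ (fun u hu => ?_) (fun W hW => ?_)
  · exact isClosed_singleton_of_str p (hX.representable_from_yon _) hint a ha u hu
  · obtain ⟨q, hq, -, hqc⟩ := hd (Points.mk p)
    rw [← hq]
    exact finite_fibre_inter q hqc a ha W hW

/-- If one field-valued point in the class is quasi-compact and mono then so all are quasi-compact. -/
theorem quasiCompact_of_mono {X : Sp S} (p q : FieldPt X) (hm : Mono p.toHom) (hq : RepWith @QuasiCompact p.toHom)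
    (h : Points.mk q = Points.mk p) : RepWith @QuasiCompact q.toHom := by
  obtain ⟨c, hc⟩ := factors_of_mono p q hm hq.1 h
  rw [← hc]
  refine MorphismProperty.comp_mem _ _ _ ((repWith_yon_map_iff _ _).2 ?_) hq
  let d : Spec (CommRingCat.of q.K) ⟶ Spec (CommRingCat.of p.K) := c.left
  have : QuasiCompact d := inferInstance
  exact this

theorem descendsAlong_isFinite_fppf : MorphismProperty.DescendsAlong @IsFinite K613.Cover.fppf.{u} := by
  have := Groth.Agent.Desc.MorDescent.descendsAlong_isFinite.{u}
  infer_instance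

theorem isFinite_fibre {X : Sp S} (p : FieldPt X) (hq : RepWith @QuasiCompact p.toHom)
    (hint : IsFinite p.str) {U : Over S} (a : (yon S).obj U ⟶ X) (ha : RepWith @Etale a) {E : Over S}
    {e : E ⟶ p.pt} {i : E ⟶ U} (sq : IsPullback ((yon S).map e) ((yon S).map i) p.toHom a) : IsFinite i.left := by
  have he : Etale e.left := ha.2 _ _ e sq.flip
  have hi : QuasiCompact i.left := hq.2 a _ i sq
  have hsup : (⨆ W : U.left.affineOpens, (W : U.left.Opens)) = ⊤ := iSup_affineOpens_eq_top U.left
  rw [IsZariskiLocalAtTarget.iff_of_iSup_eq_top (P := @IsFinite) _ hsup]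
  intro W
  let V := i.left ⁻¹ᵁ (W : U.left.Opens)
  have hc : CompactSpace V :=
    isCompact_iff_compactSpace.1 (QuasiCompact.isCompact_preimage (f := i.left) _ W.1.isOpen W.2.isCompact)
  have hW : IsAffine (W : U.left.Opens).toScheme := W.2
  let d : (V : Scheme.{u}) ⟶ Spec (CommRingCat.of p.K) := V.ι ≫ e.left
  have hd : Etale d := inferInstanceAs (Etale (V.ι ≫ e.left))
  have hdf : IsFinite d := isFinite_of_etale_field d
  have h1 : (i.left ∣_ (W : U.left.Opens)) ≫ ((W : U.left.Opens).ι ≫ U.hom) = d ≫ p.str := by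
    rw [← Category.assoc, morphismRestrict_ι, Category.assoc, Over.w i]
    change V.ι ≫ E.hom = (V.ι ≫ e.left) ≫ p.str
    rw [Category.assoc]
    exact congrArg _ (Over.w e).symm
  have h2 : IsFinite ((i.left ∣_ (W : U.left.Opens)) ≫ ((W : U.left.Opens).ι ≫ U.hom)) := by
    rw [h1]
    infer_instance
  exact IsFinite.of_comp _ ((W : U.left.Opens).ι ≫ U.hom)

theorem repWith_isFinite {X : Sp S} (hX : IsAlgSpace X) (hd : IsDecent X) (p : FieldPt X)
    (hint : IsFinite p.str) : RepWith @IsFinite p.toHom := by
  obtain ⟨q, hq, hm, hqc⟩ := hd (Points.mk p)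
  have hpc : RepWith @QuasiCompact p.toHom := quasiCompact_of_mono q p hm hqc hq.symm
  obtain ⟨U, a, ha, has⟩ := hX.atlas
  obtain ⟨E, e, i, sq, -⟩ := exists_fibre_scheme p hpc.1 a
  have h1 : IsFinite i.left := isFinite_fibre p hpc hint a ha sq
  have h2 : K613.Cover.FSurj a := (K613.Cover.ESurj.of_repWith ha has).fSurj
  have h3 := descendsAlong_isFinite_fppf.{u}
  exact h2.repWith (Pr := @IsFinite) sq hpc.1 ((repWith_yon_map_iff _ _).2 h1)

theorem mono_of_mono_str {X : Sp S} (p : FieldPt X) [Mono p.str] : Mono p.toHom := by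
  refine K613.Basic.mono_of_injective fun T x y _ => ?_
  obtain ⟨x, rfl⟩ := (yon S).map_surjective x
  obtain ⟨y, rfl⟩ := (yon S).map_surjective y
  congr 1
  apply Over.OverMorphism.ext
  rw [← cancel_mono p.str]
  exact (Over.w x).trans (Over.w y).symm

theorem repWith_isClosedImmersion_of_mono {X F : Sp S} {f : F ⟶ X} [Mono f] (hf : RepWith @IsFinite f) :
    RepWith @IsClosedImmersion f := by
  refine ⟨hf.1, fun U V g fst snd sq => ?_⟩
  have h1 : IsFinite snd.left := hf.2 g fst snd sq
  have h2 : Mono snd.left := mono_left_of_isPullback sq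
  exact (IsClosedImmersion.iff_isFinite_and_mono _).2 ⟨h1, h2⟩

end K618.ClosedPt
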