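import Groth.Agent.AlgSp.K618.Dim

/-!
# Dimension of decent algebraic spaces and of their spaces of points

The quasi-soberness of the space of points is a hypothesis here (it holds for decent spaces).
-/

set_option autoImplicit false
universe u
open CategoryTheory CategoryTheory.Limits AlgebraicGeometry Opposite Topology TopologicalSpace Order

namespace K618.DimDecent

open AlgSp K618.Sch K618.FieldFib K618.TopDim

variable {S : Scheme.{u}}

theorem localDim_eq {A B : Type*} [TopologicalSpace A] [TopologicalSpace B] [QuasiSober A] [T0Space A]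
    [QuasiSober B] [T0Space B] (f : A → B) (hf : Continuous f)
    (ho : IsOpenMap f) (h : ∀ x y : A, x ⤳ y → f x = f y → x = y)
    (hl : ∀ (a : A) (b : B), b ⤳ f a → ∃ a', a' ⤳ a ∧ f a' = b) (a : A) :
    FlatMor.localDim A a = FlatMor.localDim B (f a) := by
  have key := dim_image_eq f hf ho h hl
  apply le_antisymm
  · refine le_iInf fun W => ?_
    let V : {V : Opens A // a ∈ V} := ⟨⟨f ⁻¹' W.1, W.1.isOpen.preimage hf⟩, W.2⟩
    refine (iInf_le _ V).trans ?_
    change topologicalKrullDim (f ⁻¹' (W.1 : Set B)) ≤ _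
    rw [key _ (W.1.isOpen.preimage hf)]
    have h1 : f '' (f ⁻¹' (W.1 : Set B)) ⊆ W.1 := Set.image_preimage_subset _ _
    exact (IsInducing.topologicalKrullDim_le
      (f := Set.inclusion h1) (IsEmbedding.inclusion h1).isInducing)
  · refine le_iInf fun V => ?_
    let W : {W : Opens B // f a ∈ W} := ⟨⟨f '' V.1, ho _ V.1.isOpen⟩, a, V.2, rfl⟩
    refine (iInf_le _ W).trans ?_
    change topologicalKrullDim (f '' (V.1 : Set A)) ≤ _
    rw [← key _ V.1.isOpen]

section

variable {X : Sp S} (hX : IsAlgSpace X) (hd : IsDecent X) [QuasiSober (Points X)] {U : Over S}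
  {a : (yon S).obj U ⟶ X} (ha : RepWith @Etale a)

include hX hd ha

omit [QuasiSober (Points X)] in
theorem fibres (x y : ↥U.left) (h : x ⤳ y) (he : Points.ofPt a x = Points.ofPt a y) : x = y :=
  K621.Decent.eq_of_specializes hX ha h he (K621.Decent.finFibres_of_isDecent hd _)

omit [QuasiSober (Points X)] hX in
theorem lifts (u : ↥U.left) (x : Points X) (h : x ⤳ Points.ofPt a u) :
    ∃ u' : ↥U.left, u' ⤳ u ∧ Points.ofPt a u' = x := by
  obtain ⟨p, rfl, -, hq⟩ := hd x
  exact exists_specializes_lift p hq a ha u h

theorem localDim_chart_eq (u : ↥U.left) :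
    FlatMor.localDim ↥U.left u = FlatMor.localDim (Points X) (Points.ofPt a u) := by
  have := K621.Decent.t0Space hX hd
  exact localDim_eq (Points.ofPt a) (Points.continuous_ofPt a) (K609.Points.isOpenMap_ofPt ha)
    (fibres hX hd ha) (lifts hd ha) u

theorem dim_chart_eq : topologicalKrullDim ↥U.left = topologicalKrullDim (Set.range (Points.ofPt a)) := by
  have := K621.Decent.t0Space hX hd
  have h1 := dim_image_eq (Points.ofPt a) (Points.continuous_ofPt a) (K609.Points.isOpenMap_ofPt ha)
    (fibres hX hd ha) (lifts hd ha) Set.univ isOpen_univ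
  rw [Set.image_univ] at h1
  rw [← h1]
  exact ((Homeomorph.Set.univ ↥U.left).isHomeomorph.topologicalKrullDim_eq _).symm

end

theorem dim_points_eq {X : Sp S} (hX : IsAlgSpace X) (hd : IsDecent X) [QuasiSober (Points X)] :
    topologicalKrullDim (Points X) = dim X := by
  apply le_antisymm
  · obtain ⟨U, a, ha, has⟩ := hX.atlas
    have h1 := dim_chart_eq hX hd ha
    rw [(K609.Points.surjective_ofPt_of_repWith_surjective has).range_eq,
      (Homeomorph.Set.univ (Points X)).isHomeomorph.topologicalKrullDim_eq] at h1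
    rw [← h1]
    exact le_iSup_of_le U (le_iSup_of_le a (le_iSup_of_le ha le_rfl))
  · refine iSup_le fun U => iSup_le fun a => iSup_le fun ha => ?_
    rw [dim_chart_eq hX hd ha]
    exact topologicalKrullDim_subspace_le _ _

end K618.DimDecent
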