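import Groth.Agent.AlgSp.K597.ProperSub
import Groth.Agent.AlgSp.K606.OpenLim
import Groth.Agent.AlgSp.K610.Sub
import Groth.Agent.AlgSp.K610.OpenImm
import Groth.Agent.AlgSp.K598.RepKit
import Groth.Agent.AlgSp.K647.Proper
import Groth.Agent.S1366

/-!
# Splitting off the proper part over a henselian pair

`exists_clopen` : the conclusion of S10658 for `X` admitting a proper surjective morphism from a scheme (weak Chow
lemma), by reduction to the case of schemes (S1366).
-/

set_option autoImplicit false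
set_option backward.isDefEq.respectTransparency.types false

universe u

open CategoryTheory CategoryTheory.Limits AlgebraicGeometry Opposite AlgSp TopologicalSpace

namespace K618.Hensel

section General

variable {S : Scheme.{u}}

/-- The scheme level properties of a scheme separated and of finite type over a scheme, all as sheaves. -/
theorem props_of_yon {T V : Over S} (φ : T ⟶ V) [IsAffine V.left] (h1 : IsSeparatedMor ((yon S).map φ))
    (h2 : IsFiniteTypeMor ((yon S).map φ)) :
    IsSeparated φ.left ∧ LocallyOfFiniteType φ.left ∧ QuasiCompact φ.left := by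
  have hr : Representable ((yon S).map φ) := (IsAlgSpace.yon_obj V).representable_from_yon _
  refine ⟨(isSeparatedMor_yon_map_iff φ).1 h1, ?_, ?_⟩
  · have := K597.repWith_of_locP K597.etLoc_lft (IsAlgSpace.yon_obj V).hasAtlas hr h2.1
    exact (repWith_yon_map_iff _ φ).1 this
  · have h3 : IsQuasiCompactSp ((yon S).obj T) := h2.2 (IsAlgSpace.yon_obj V) (K596.QC.isQuasiCompactSp_yon V)
      (𝟙 _) (𝟙 _) ((yon S).map φ) (IsPullback.of_horiz_isIso ⟨by simp⟩)
    have h4 : CompactSpace (Points ((yon S).obj T)) := K609.QC.compactSpace_points h3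
    have h5 : CompactSpace ↥T.left := (Points.schemeHomeo T).symm.compactSpace
    exact (quasiCompact_iff_compactSpace φ.left).2 inferInstance

/-- An open immersion of sheaves with closed image on points is a closed immersion. -/
theorem repWith_isClosedImmersion_of_open {W X : Sp S} {w : W ⟶ X} (hw : RepWith @IsOpenImmersion w)
    (hc : IsClosed (Set.range (Points.map w))) : RepWith @IsClosedImmersion w := by
  refine ⟨hw.1, fun T V g fst snd sq => ?_⟩
  have h1 : IsOpenImmersion snd.left := hw.2 g fst snd sq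
  have h2 : Set.range snd.left = Points.ofPt g ⁻¹' Set.range (Points.map w) := by
    ext t
    constructor
    · rintro ⟨v, rfl⟩
      refine ⟨Points.ofPt fst v, ?_⟩
      rw [Points.map_ofPt, sq.w, K610.Base.ofPt_map_comp]
    · rintro ⟨x, hx⟩
      obtain ⟨v, -, hv⟩ := K610.Base.exists_of_isPullback_yon sq x t hx
      exact ⟨v, hv⟩
  have h3 : IsPreimmersion snd.left := inferInstance
  refine IsClosedImmersion.of_isPreimmersion snd.left ?_
  rw [h2]
  exact hc.preimage (Points.continuous_ofPt g)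

/-- Preimage of a set of points under `g : h_T ⟶ X`, as the range of a morphism of schemes. -/
theorem range_map_yon {T V : Over S} {X : Sp S} (g : (yon S).obj T ⟶ X) (i : V ⟶ T) (W : Set (Points X))
    (h : Set.range i.left = Points.ofPt g ⁻¹' W) :
    Set.range (Points.map ((yon S).map i)) = Points.map g ⁻¹' W := by
  ext x
  obtain ⟨t, rfl⟩ := (Points.schemeEquiv T).surjective x
  have h1 : Points.schemeEquiv T t ∈ Set.range (Points.map ((yon S).map i)) ↔ t ∈ Set.range i.left := by
    constructor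
    · rintro ⟨z, hz⟩
      obtain ⟨v, rfl⟩ := (Points.schemeEquiv V).surjective z
      refine ⟨v, (Points.schemeEquiv T).injective ?_⟩
      rw [← hz]
      exact (Points.map_yon_map_apply i v).symm
    · rintro ⟨v, rfl⟩
      exact ⟨_, Points.map_yon_map_apply i v⟩
  rw [h1, h]
  change Points.ofPt g t ∈ W ↔ Points.map g (Points.ofScheme T t) ∈ W
  rw [← Points.ofPt_eq_map_ofScheme]

end General

theorem exists_closed_point (A : Type u) [CommRing A] (C : Set (PrimeSpectrum A)) (hC : IsClosed C)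
    (hne : C.Nonempty) : ∃ p ∈ C, Ideal.jacobson (⊥ : Ideal A) ≤ p.asIdeal := by
  obtain ⟨p, hp, hpc⟩ := IsClosed.exists_closed_singleton hC hne
  have hm : p.asIdeal.IsMaximal := (PrimeSpectrum.isClosed_singleton_iff_isMaximal p).1 hpc
  exact ⟨p, hp, sInf_le ⟨bot_le, hm⟩⟩

/-- The statement of S10658 given a proper surjective morphism from a scheme. -/
theorem exists_clopen (A : Type u) [CommRing A] (I : Ideal A) [HenselianRing A I]
    {X X0 Y : AlgSp.Space (Spec (CommRingCat.of A))}
    (s : X.obj ⟶ (AlgSp.yon (Spec (CommRingCat.of A))).obj (Over.mk (𝟙 _)))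
    (hs1 : AlgSp.IsSeparatedMor s) (hs2 : AlgSp.IsFiniteTypeMor s)
    (i0 : X0 ⟶ X)
    (s0 : X0.obj ⟶ (AlgSp.yon (Spec (CommRingCat.of A))).obj
      (Over.mk (Spec.map (CommRingCat.ofHom (Ideal.Quotient.mk I)))))
    (hX0 : IsPullback i0.hom s0 s ((AlgSp.yon (Spec (CommRingCat.of A))).map
      (Over.homMk (Spec.map (CommRingCat.ofHom (Ideal.Quotient.mk I))) (Category.comp_id _) :
        Over.mk (Spec.map (CommRingCat.ofHom (Ideal.Quotient.mk I))) ⟶ Over.mk (𝟙 _))))
    (jY : Y ⟶ X0) (hY1 : AlgSp.RepWith @IsOpenImmersion jY.hom) (hY2 : AlgSp.RepWith @IsClosedImmersion jY.hom)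
    (hY3 : AlgSp.IsProperMor (jY.hom ≫ s0))
    (T : Over (Spec (CommRingCat.of A))) (g : (yon (Spec (CommRingCat.of A))).obj T ⟶ X.obj)
    (hg : IsProperMor g) (hgs : IsSurjectiveMor g) :
    ∃ (W : AlgSp.Space (Spec (CommRingCat.of A))) (w : W ⟶ X) (k : Y ⟶ W),
      AlgSp.RepWith @IsOpenImmersion w.hom ∧ AlgSp.RepWith @IsClosedImmersion w.hom ∧
        AlgSp.IsProperMor (w.hom ≫ s) ∧ IsPullback k.hom jY.hom w.hom i0.hom := by
  let B : Scheme.{u} := Spec (CommRingCat.of A)
  let σ : Spec (CommRingCat.of (A ⧸ I)) ⟶ B := Spec.map (CommRingCat.ofHom (Ideal.Quotient.mk I))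
  have hσc : IsClosedImmersion σ := IsClosedImmersion.spec_of_surjective _ Ideal.Quotient.mk_surjective
  have hσr : Set.range σ = PrimeSpectrum.zeroLocus (I : Set A) := by
    have := range_comap_of_surjective _ (Ideal.Quotient.mk I) Ideal.Quotient.mk_surjective
    rw [Ideal.mk_ker] at this
    exact this
  let σO : Over.mk σ ⟶ (Over.mk (𝟙 B) : Over B) := Over.homMk σ (Category.comp_id _)
  -- the scheme `T`
  have hBa : IsAlgSpace ((yon B).obj (Over.mk (𝟙 B))) := IsAlgSpace.yon_obj _
  let f : T.left ⟶ B := T.hom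
  let φ : T ⟶ (Over.mk (𝟙 B) : Over B) := Over.homMk f (Category.comp_id _)
  have hφ : g ≫ s = (yon B).map φ := by
    obtain ⟨ψ, hψ⟩ := (yon B).map_surjective (g ≫ s)
    rw [← hψ]
    congr 1
    apply Over.OverMorphism.ext
    have := Over.w ψ
    exact (Category.comp_id _).symm.trans this
  have hT : IsAlgSpace ((yon B).obj T) := IsAlgSpace.yon_obj T
  have hgs1 : IsSeparatedMor (g ≫ s) := K595.DiagRel.isSeparatedMor_isMultiplicative.comp_mem _ _ hg.1 hs1
  have hgs2 : IsFiniteTypeMor (g ≫ s) :=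
    ⟨K597.locP_comp K597.etLoc_lft hT.hasAtlas X.property.hasAtlas hBa.hasAtlas hg.2.1.1 hs2.1,
      K596.QC.isQuasiCompactMor_comp X.property hBa hg.2.1.2 hs2.2⟩
  rw [hφ] at hgs1 hgs2
  have hBaff : IsAffine (Over.mk (𝟙 B) : Over B).left := inferInstanceAs (IsAffine (Spec (CommRingCat.of A)))
  obtain ⟨hf1, hf2, hf3⟩ : IsSeparated f ∧ LocallyOfFiniteType f ∧ QuasiCompact f := props_of_yon φ hgs1 hgs2
  -- the base change to `A / I`
  let T0 : Over B := Over.mk (pullback.fst f σ ≫ f)
  let a : T0 ⟶ T := Over.homMk (pullback.fst f σ) rfl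
  let b : T0 ⟶ Over.mk σ := Over.homMk (pullback.snd f σ) pullback.condition.symm
  have sqT : IsPullback ((yon B).map a) ((yon B).map b) ((yon B).map φ) ((yon B).map σO) :=
    K598.RepKit.yon_isPullback (K598.RepKit.over_isPullback (IsPullback.of_hasPullback f σ))
  let g0 : (yon B).obj T0 ⟶ X0.obj := hX0.lift ((yon B).map a ≫ g) ((yon B).map b) (by
    rw [Category.assoc, hφ]; exact sqT.w)
  have hg0a : g0 ≫ i0.hom = (yon B).map a ≫ g := hX0.lift_fst _ _ _
  have hg0b : g0 ≫ s0 = (yon B).map b := hX0.lift_snd _ _ _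
  have sq0 : IsPullback ((yon B).map a) g0 g i0.hom := by
    refine IsPullback.of_bot ?_ hg0a.symm hX0
    rw [hg0b, hφ]
    exact sqT
  have hg0 : IsProperMor g0 :=
    K597.Proper.isProperMor_of_isPullback hT X.property X0.property sq0 hg
  have hlift : ∀ (x : Points X0.obj) (t : ↥T.left), Points.map i0.hom x = Points.ofPt g t →
      ∃ v : ↥T0.left, Points.ofPt g0 v = x ∧ a.left v = t := fun x t h =>
    K610.Base.exists_of_isPullback_yon sq0.flip x t h
  have hga : ∀ v : ↥T0.left, Points.map i0.hom (Points.ofPt g0 v) = Points.ofPt g (a.left v) := fun v => by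
    rw [← K610.Base.ofPt_comp, hg0a, K610.Base.ofPt_map_comp]
  have hi0 : RepWith @IsClosedImmersion i0.hom :=
    MorphismProperty.of_isPullback (P := RepWith @IsClosedImmersion) hX0.flip ((repWith_yon_map_iff _ _).2 hσc)
  have hi0inj : Function.Injective (Points.map i0.hom) :=
    (K610.OpenImm.isEmbedding_points X.property (K610.OpenImm.repWith_isImmersion_of_closed hi0)).1.injective
  -- the clopen part of `T0`
  have hYo : IsOpen (Set.range (Points.map jY.hom)) :=
    (K610.OpenImm.isOpenEmbedding_points X0.property hY1).isOpen_range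
  have hYcl : IsClosed (Set.range (Points.map jY.hom)) := by
    have := K597.ProperSub.isUnivClosedMor_of_closed hY2 X0.property (𝟙 _) (𝟙 _) jY.hom
      (IsPullback.of_horiz_isIso ⟨by simp⟩)
    exact this.isClosed_range
  let Y' : (pullback f σ).Opens := ⟨Points.ofPt g0 ⁻¹' Set.range (Points.map jY.hom),
    hYo.preimage (Points.continuous_ofPt g0)⟩
  have hY'c : IsClosed (Y' : Set ↥(pullback f σ)) := hYcl.preimage (Points.continuous_ofPt g0)
  let TY : Over B := Over.mk (Y'.ι ≫ T0.hom)
  let iY : TY ⟶ T0 := Over.homMk Y'.ι rfl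
  have hiY : RepWith @IsOpenImmersion ((yon B).map iY) := (repWith_yon_map_iff _ _).2
    (inferInstanceAs (IsOpenImmersion Y'.ι))
  obtain ⟨qY, sqY⟩ := K606.OpenLim.exists_isPullback_of_range hiY hY1 g0
    (range_map_yon g0 iY _ (by
      change Set.range Y'.ι = _
      rw [Scheme.Opens.range_ι]
      rfl))
  have hY'p : IsProper (Y'.ι ≫ pullback.snd f σ) := by
    have h1 : IsProperMor qY := K597.Proper.isProperMor_of_isPullback (IsAlgSpace.yon_obj T0) X0.property Y.property
      sqY hg0
    have h2 : qY ≫ jY.hom ≫ s0 = (yon B).map (iY ≫ b) := by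
      rw [← Category.assoc, ← sqY.w, Category.assoc, hg0b, Functor.map_comp]
    have h3 : IsProperMor (qY ≫ jY.hom ≫ s0) :=
      K597.ProperSub.isProperMor_comp (IsAlgSpace.yon_obj TY) Y.property (IsAlgSpace.yon_obj _) h1 hY3
    rw [h2, K597.Proper.isProperMor_iff_repWith (IsAlgSpace.yon_obj _)
      ((IsAlgSpace.yon_obj _).representable_from_yon _), repWith_yon_map_iff] at h3
    exact h3
  obtain ⟨W', hW'c, hW'p, hW'⟩ := Groth.Agent.S1366.result I f Y' hY'c hY'p
  have hW'0 : ∀ v : ↥T0.left, a.left v ∈ W' ↔ Points.ofPt g0 v ∈ Set.range (Points.map jY.hom) := fun v => by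
    change v ∈ (pullback.fst f σ ⁻¹ᵁ W') ↔ v ∈ Y'
    exact Eq.to_iff (congrArg (fun O : (pullback f σ).Opens => v ∈ O) hW')
  -- `W'` is saturated
  have hgc : IsClosedMap (Points.ofPt g) := by
    have h1 : IsClosedMap (Points.map g) := hg.2.2 X.property (𝟙 _) (𝟙 _) g
      (IsPullback.of_horiz_isIso ⟨by simp⟩)
    have h2 : Points.ofPt g = Points.map g ∘ Points.schemeHomeo T := by
      funext t
      exact Points.ofPt_eq_map_ofScheme g t
    rw [h2]
    exact h1.comp (Points.schemeHomeo T).isClosedMap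
  have hgsurj : Function.Surjective (Points.ofPt g) := by
    intro x
    obtain ⟨z, hz⟩ := hgs x
    obtain ⟨t, rfl⟩ := (Points.schemeEquiv T).surjective z
    exact ⟨t, (Points.ofPt_eq_map_ofScheme g t).trans hz⟩
  have hfg : ∀ t t' : ↥T.left, Points.ofPt g t = Points.ofPt g t' → f t = f t' := by
    intro t t' h
    have h1 : Points.ofPt ((yon B).map φ) t = Points.ofPt ((yon B).map φ) t' := by
      rw [← hφ, K610.Base.ofPt_comp, K610.Base.ofPt_comp, h]
    have h2 := congrArg (Points.toScheme _) h1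
    rw [Points.toScheme_ofPt, Points.toScheme_ofPt] at h2
    exact h2
  have hsat : ∀ t t' : ↥T.left, Points.ofPt g t = Points.ofPt g t' → t ∈ W' → t' ∈ W' := by
    intro t t' htt ht
    by_contra ht'
    let E : Set ↥T.left := (W' : Set ↥T.left) ∩ Points.ofPt g ⁻¹' (Points.ofPt g '' (W' : Set ↥T.left)ᶜ)
    have hEc : IsClosed E := hW'c.inter
      ((hgc _ W'.isOpen.isClosed_compl).preimage (Points.continuous_ofPt g))
    have hfE : IsClosed (f '' E) := by
      have h1 : f '' E = (W'.ι ≫ f) '' (W'.ι ⁻¹' E) := by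
        ext p
        constructor
        · rintro ⟨e, he, rfl⟩
          exact ⟨⟨e, he.1⟩, he, rfl⟩
        · rintro ⟨e, he, rfl⟩
          exact ⟨e.1, he, rfl⟩
      rw [h1]
      exact (W'.ι ≫ f).isClosedMap _ (hEc.preimage W'.ι.continuous)
    have hne : (f '' E).Nonempty := ⟨f t, t, ⟨ht, t', ht', htt.symm⟩, rfl⟩
    obtain ⟨p, hp1, hp2⟩ : ∃ p : ↥B, p ∈ (⇑f '' E) ∧ p ∈ Set.range ⇑σ := by
      obtain ⟨p, hp, hpc⟩ := exists_closed_point A (f '' E) hfE hne
      refine ⟨p, hp, ?_⟩
      rw [hσr]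
      exact (HenselianRing.jac (R := A) (I := I)).trans hpc
    obtain ⟨e, ⟨he1, e', he1', he2⟩, rfl⟩ := hp1
    have hr : Set.range a.left = f ⁻¹' Set.range σ := Scheme.Pullback.range_fst f σ
    obtain ⟨e0, rfl⟩ : e ∈ Set.range a.left := by rw [hr]; exact hp2
    obtain ⟨e0', rfl⟩ : e' ∈ Set.range a.left := by
      rw [hr]
      change f e' ∈ Set.range ⇑σ
      rw [hfg e' _ he2]
      exact hp2
    apply he1'
    change a.left e0' ∈ W'
    rw [hW'0]
    have h3 : Points.ofPt g0 e0' = Points.ofPt g0 e0 := hi0inj (by rw [hga, hga, he2])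
    rw [h3, ← hW'0]
    exact he1
  -- the clopen subspace of `X`
  let WX : Set (Points X.obj) := Points.ofPt g '' (W' : Set ↥T.left)
  have hWXc : IsClosed WX := hgc _ hW'c
  have hWXpre : Points.ofPt g ⁻¹' WX = (W' : Set ↥T.left) := by
    ext t
    constructor
    · rintro ⟨t', ht', h⟩
      exact hsat t' t h ht'
    · exact fun h => ⟨t, h, rfl⟩
  have hWXo : IsOpen WX := by
    have h1 : WX = (Points.ofPt g '' (W' : Set ↥T.left)ᶜ)ᶜ := by
      ext x
      constructor
      · rintro ⟨t, ht, rfl⟩ ⟨t', ht', h⟩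
        exact ht' (hsat t t' h.symm ht)
      · intro h
        obtain ⟨t, rfl⟩ := hgsurj x
        by_contra h'
        exact h ⟨t, fun ht => h' ⟨t, ht, rfl⟩, rfl⟩
    rw [h1]
    exact (hgc _ W'.isOpen.isClosed_compl).isOpen_compl
  obtain ⟨W, w, hw, hwr⟩ := K610.Sub.exists_open_subspace X WX hWXo
  have hwc : RepWith @IsClosedImmersion w.hom := repWith_isClosedImmersion_of_open hw (by rw [hwr]; exact hWXc)
  -- the scheme `W'` covers `W`
  let TW : Over B := Over.mk (W'.ι ≫ T.hom)
  let iW : TW ⟶ T := Over.homMk W'.ι rfl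
  have hiW : RepWith @IsOpenImmersion ((yon B).map iW) := (repWith_yon_map_iff _ _).2
    (inferInstanceAs (IsOpenImmersion W'.ι))
  obtain ⟨qW, sqW⟩ := K606.OpenLim.exists_isPullback_of_range hiW hw g (by
    rw [hwr]
    refine range_map_yon g iW _ ?_
    change Set.range W'.ι = _
    rw [Scheme.Opens.range_ι, hWXpre])
  have hqW : IsProperMor qW :=
    K597.Proper.isProperMor_of_isPullback hT X.property W.property sqW hg
  have hWp : IsProperMor (w.hom ≫ s) := by
    let ZW : Space B := ⟨(yon B).obj TW, IsAlgSpace.yon_obj TW⟩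
    let BB : Space B := ⟨(yon B).obj (Over.mk (𝟙 B)), hBa⟩
    have h1 : qW ≫ w.hom ≫ s = (yon B).map (iW ≫ φ) := by
      rw [← Category.assoc, ← sqW.w, Category.assoc, hφ, Functor.map_comp]
    have h2 : IsProper (iW ≫ φ).left := hW'p
    refine K597.ProperSub.isProperMor_of_surjective (Z := ZW) (W := W) (B := BB) ⟨qW⟩ (w ≫ ⟨s⟩) ?_ hqW.2.2 ?_ ?_
    · intro x
      obtain ⟨t, ht⟩ := hgsurj (Points.map w.hom x)
      obtain ⟨z, -, hz⟩ := K610.Base.exists_of_isPullback sqW (Points.ofScheme T t) x (by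
        rw [← ht, ← Points.ofPt_eq_map_ofScheme])
      exact ⟨z, hz⟩
    · exact K597.locP_comp K597.etLoc_lft W.property.hasAtlas X.property.hasAtlas hBa.hasAtlas
        (K597.ProperSub.locP_lft_of_closed hwc) hs2.1
    · change IsProperMor (qW ≫ w.hom ≫ s)
      rw [h1]
      exact K647.Proper.isProperMor_yon_map (iW ≫ φ)
  -- the restriction to `A / I`
  obtain ⟨k, sqk⟩ := K606.OpenLim.exists_isPullback_of_range hY1 hw i0.hom (by
    rw [hwr]
    ext x
    constructor
    · rintro ⟨y, rfl⟩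
      obtain ⟨t, ht⟩ := hgsurj (Points.map i0.hom (Points.map jY.hom y))
      obtain ⟨v, hv1, hv2⟩ := hlift _ t ht.symm
      refine ⟨t, ?_, ht⟩
      change t ∈ W'
      rw [← hv2, hW'0, hv1]
      exact ⟨y, rfl⟩
    · rintro ⟨t, ht, hx⟩
      obtain ⟨v, hv1, hv2⟩ := hlift x t hx.symm
      rw [← hv1, ← hW'0, hv2]
      exact ht)
  exact ⟨W, w, ⟨k⟩, hw, hwc, hWp, sqk.flip⟩

end K618.Hensel
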