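import Groth.Agent.AlgSp.K618.FieldFib
import Groth.Agent.AlgSp.K613.Cover
import Groth.Agent.AlgSp.K619.Singleton

/-!
# Decent spaces with an étale surjective field point, reduced one-point decent spaces
-/

set_option autoImplicit false
universe u
open CategoryTheory CategoryTheory.Limits AlgebraicGeometry Opposite Topology

namespace K618.OnePoint

open AlgSp K618.Sch K618.FieldFib

variable {S : Scheme.{u}} {F G H P : Sp S}

/-- The field-valued point of a morphism from the spectrum of a field. -/
noncomputable def ofHom {X : Sp S} {k : Type u} [Field k] {str : Spec (CommRingCat.of k) ⟶ S}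
    (p : (yon S).obj (Over.mk str) ⟶ X) : FieldPt X := ⟨k, str, (J S).uliftYonedaEquiv p⟩

theorem ofHom_toHom {X : Sp S} {k : Type u} [Field k] {str : Spec (CommRingCat.of k) ⟶ S}
    (p : (yon S).obj (Over.mk str) ⟶ X) : (ofHom p).toHom = p :=
  Equiv.symm_apply_apply _ _

theorem mk_ofHom {X : Sp S} {k : Type u} [Field k] {str : Spec (CommRingCat.of k) ⟶ S}
    (p : (yon S).obj (Over.mk str) ⟶ X) (t : ↥(Spec (CommRingCat.of k))) :
    Points.mk (ofHom p) = Points.ofPt p t := by
  have h := Points.ofPt_toHom (ofHom p) t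
  rw [ofHom_toHom] at h
  exact h.symm

theorem exists_iso_spec_field {X : Sp S} (hX : IsDecent X) {k : Type u} [Field k]
    {str : Spec (CommRingCat.of k) ⟶ S} (p : (yon S).obj (Over.mk str) ⟶ X) (hp : RepWith @Etale p)
    (hs : RepWith @Surjective p) :
    ∃ (k' : Type u) (_ : Field k') (str' : Spec (CommRingCat.of k') ⟶ S)
      (e : (yon S).obj (Over.mk str') ≅ X) (c : Over.mk str ⟶ Over.mk str'),
      (yon S).map c ≫ e.hom = p ∧ IsFinite c.left ∧ Etale c.left := by
  obtain ⟨q, hq, hm, hqc⟩ := hX (Points.mk (ofHom p))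
  obtain ⟨c, hc⟩ := factors_of_mono q (ofHom p) hm hqc.1 hq.symm
  rw [ofHom_toHom] at hc
  have h1 : K613.Cover.ESurj ((yon S).map c ≫ q.toHom) := by
    rw [hc]
    exact K613.Cover.ESurj.of_repWith hp hs
  have h2 : IsIso q.toHom := h1.of_comp.fSurj.isIso_of_mono
  have h3 : Etale c.left := by
    rw [← hc] at hp
    exact (repWith_yon_map_iff _ _).1
      ((MorphismProperty.cancel_right_of_respectsIso (RepWith @Etale) ((yon S).map c) q.toHom).1 hp)
  have h4 : CompactSpace ↥(Over.mk str).left := inferInstanceAs (CompactSpace ↥(Spec (CommRingCat.of k)))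
  have h5 : CompactSpace ↥((ofHom p).pt).left := inferInstanceAs (CompactSpace ↥(Spec (CommRingCat.of k)))
  exact ⟨q.K, inferInstance, q.str, asIso q.toHom, c, hc, isFinite_of_etale_field (k := q.K) c.left, h3⟩

theorem exists_iso_of_reduced_singleton {X : Sp S} (hX : IsDecent X)
    (hr : EtaleLocally (fun U => IsReduced U) X) [hn : Nonempty (Points X)] [hs : Subsingleton (Points X)] :
    ∃ (k : Type u) (_ : Field k) (str : Spec (CommRingCat.of k) ⟶ S),
      Nonempty ((yon S).obj (Over.mk str) ≅ X) := by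
  obtain ⟨U, a, ha, has, hU⟩ := hr
  obtain ⟨k, _, str, p, hpf, hps⟩ := K619.Singleton.reduced_singleton_imp ⟨U, a, ha, has, hU⟩ hn hs
  obtain ⟨q, hq, hm, hqc⟩ := hX (Classical.arbitrary _)
  obtain ⟨E, e, i, he, hi, sq, hE⟩ := exists_fibre_scheme_etale q hqc a ha
  have hmi : Mono i.left := mono_left_of_isPullback sq
  have hfl : Flat i.left := K619.FieldChart.flat_of_isField_stalk i.left fun u =>
    K619.FieldChart.isField_stalk_chart hpf hps ha u
  have hsu : Surjective i.left := ⟨fun u => (hE u).1 (Subsingleton.elim _ _)⟩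
  have hii : IsIso i.left := Flat.isIso_of_surjective_of_mono i.left
  have hii' : IsIso i := by
    have : IsIso ((Over.forget S).map i) := hii
    exact isIso_of_reflects_iso i (Over.forget S)
  have h1 : K613.Cover.FSurj a := (K613.Cover.ESurj.of_repWith ha has).fSurj
  have h2 : IsIso q.toHom := h1.isIso sq
  exact ⟨q.K, inferInstance, q.str, ⟨asIso q.toHom⟩⟩

end K618.OnePoint
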