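import Groth.Agent.AlgSp.K618.FieldFib
import Groth.Agent.AlgSp.K613.Cover

/-!
# Surjective open immersions are isomorphisms
-/

set_option autoImplicit false
universe u
open CategoryTheory CategoryTheory.Limits AlgebraicGeometry Opposite Topology

namespace K618.OpenSurj

open AlgSp

variable {S : Scheme.{u}}

theorem isIso_of_openImmersion_surjective {X Y : Sp S} {j : X ⟶ Y} (hj : RepWith @IsOpenImmersion j)
    (hs : RepWith @Surjective j) : IsIso j := by
  have h1 : K613.Cover.ESurj j := by
    intro T g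
    obtain ⟨V, snd, fst, sq⟩ := hj.1 g
    have h2 : IsOpenImmersion snd.left := hj.2 g fst snd sq
    exact ⟨V, snd, fst, ⟨inferInstance, hs.2 g fst snd sq⟩, sq.w⟩
  have h3 : Mono j := by
    refine K613.Basic.mono_of_injective fun T x y hxy => ?_
    obtain ⟨V, snd, fst, sq⟩ := hj.1 (x ≫ j)
    have h2 : IsOpenImmersion snd.left := hj.2 _ fst snd sq
    have h4 : Mono snd := by
      have : Mono snd.left := inferInstance
      exact Over.mono_of_mono_left snd
    have h5 : sq.lift x (𝟙 _) (by rw [Category.id_comp]) = sq.lift y (𝟙 _) (by rw [Category.id_comp, hxy]) := by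
      rw [← cancel_mono ((yon S).map snd), sq.lift_snd, sq.lift_snd]
    rw [← sq.lift_fst x (𝟙 _) (by rw [Category.id_comp]), h5, sq.lift_fst]
  exact h1.fSurj.isIso_of_mono

theorem isRepresentable_of_iso {X Y : Sp S} (e : X ≅ Y) (h : X.obj.IsRepresentable) : Y.obj.IsRepresentable := by
  obtain ⟨T, ⟨r⟩⟩ := h.has_representation
  exact ⟨T, ⟨r.ofIso ((sheafToPresheaf _ _).mapIso e)⟩⟩

theorem isRepresentable_of_yon_iso {X : Sp S} {T : Over S} (e : (yon S).obj T ≅ X) : X.obj.IsRepresentable :=
  ⟨T, ⟨representableByOfIso e⟩⟩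

end K618.OpenSurj
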