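import Groth.Agent.AlgSp.K617.Strat
import Groth.Agent.AlgSp.K609.Sep
import Groth.Agent.AlgSp.K609.QC
import Groth.Agent.AlgSp.K621.Charts
import Mathlib.AlgebraicGeometry.IdealSheaf.Subscheme

/-!
# Quasi-separatedness from affine étale charts; étale separated morphisms with bounded fibres

* `compactSpace_of_etale` : an étale separated morphism with bounded geometric fibres (pointwise) to a Noetherian
  scheme has quasi-compact source.
* `isQuasiSeparatedSp_of_affine_etale` : `X` is quasi-separated over `S` when `U ×_X V` is quasi-compact for all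
  affine schemes `U`, `V` étale over `X`.
* `isQuasiSeparatedSp` : locally Noetherian decent spaces are quasi-separated.
-/

set_option autoImplicit false

universe u

open CategoryTheory CategoryTheory.Limits AlgebraicGeometry Opposite AlgSp TopologicalSpace

namespace K618.QSepNoeth

open K617.EtFin

/-- The preimage of a closed subset under an étale separated morphism with finite geometric fibres to a Noetherian
scheme is quasi-compact. -/
theorem isCompact_preimage {W U : Scheme.{u}} (g : W ⟶ U) [Etale g] [IsSeparated g] [NoetherianSpace ↥U]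
    (hb : ∀ u : ↥U, ∃ n, u ∉ GE g n) (Z : Closeds ↥U) : IsCompact (g ⁻¹' (Z : Set ↥U)) := by
  induction Z using WellFoundedLT.induction with
  | ind Z ih =>
  by_cases hZ : IsPreirreducible (Z : Set ↥U)
  · rcases (Z : Set ↥U).eq_empty_or_nonempty with he | hne
    · rw [he]; simp
    obtain ⟨z, hz⟩ := QuasiSober.sober ⟨hne, hZ⟩ Z.isClosed
    obtain ⟨n, hn1, hn2⟩ : ∃ n, z ∈ GE g n ∧ z ∉ GE g (n + 1) := by
      by_contra hcon
      push Not at hcon
      obtain ⟨n, hn⟩ := hb z
      apply hn
      clear hn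
      induction n with
      | zero => exact mem_GE_zero g z
      | succ n ihn => exact hcon n ihn
    let O : U.Opens := ⟨GE g n, isOpen_GE n g⟩
    let i1 := (Scheme.IdealSheafData.vanishingIdeal Z).subschemeι
    have hi1 : Set.range i1 = (Z : Set ↥U) := by
      rw [Scheme.IdealSheafData.range_subschemeι, Scheme.IdealSheafData.coe_support_vanishingIdeal]
    let j := (i1 ⁻¹ᵁ O).ι ≫ i1
    have hj : Set.range j = (Z : Set ↥U) ∩ O := by
      ext x
      constructor
      · rintro ⟨y, rfl⟩
        refine ⟨?_, ?_⟩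
        · rw [← hi1, Scheme.Hom.comp_apply]
          exact ⟨_, rfl⟩
        · rw [Scheme.Hom.comp_apply]
          exact y.2
      · rintro ⟨h1, h2⟩
        rw [← hi1] at h1
        obtain ⟨y, rfl⟩ := h1
        exact ⟨⟨y, h2⟩, rfl⟩
    have hN : NoetherianSpace ↥(i1 ⁻¹ᵁ O : Scheme.{u}) :=
      j.isEmbedding.isInducing.noetherianSpace
    have hfin : IsFinite (pullback.snd g j) := by
      refine isFinite_of_GE n _ (Set.eq_univ_of_forall fun t => ?_) (Set.eq_empty_of_forall_notMem fun t ht => ?_)
      · rw [mem_GE_of_isPullback (IsPullback.of_hasPullback g j)]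
        exact (hj.subset ⟨t, rfl⟩).2
      · rw [mem_GE_of_isPullback (IsPullback.of_hasPullback g j)] at ht
        exact hn2 ((hz.specializes (hj.subset ⟨t, rfl⟩).1).mem_open (isOpen_GE (n + 1) g) ht)
    have hc : CompactSpace ↥(pullback g j) := QuasiCompact.compactSpace_of_compactSpace (pullback.snd g j)
    have h1 : IsCompact (g ⁻¹' ((Z : Set ↥U) ∩ O)) := by
      rw [← hj, ← Scheme.Pullback.range_fst]
      exact isCompact_range (pullback.fst g j).continuous
    have h2 : IsCompact (g ⁻¹' ((Z : Set ↥U) \ O)) := by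
      refine ih ⟨(Z : Set ↥U) \ O, Z.isClosed.sdiff O.isOpen⟩ ?_
      refine lt_of_le_of_ne (fun x hx => hx.1) fun h => ?_
      have h3 : z ∈ (Z : Set ↥U) \ O := by
        have h4 : z ∈ (Z : Set ↥U) := hz.mem
        rw [← h] at h4
        exact h4
      exact h3.2 hn1
    have h3 := h1.union h2
    rwa [← Set.preimage_union, Set.inter_union_sdiff] at h3
  · rw [isPreirreducible_iff_isClosed_union_isClosed] at hZ
    push Not at hZ
    obtain ⟨z₁, z₂, h1, h2, h3, h4, h5⟩ := hZ
    have e : (Z : Set ↥U) = ((Z : Set ↥U) ∩ z₁) ∪ ((Z : Set ↥U) ∩ z₂) := by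
      rw [← Set.inter_union_distrib_left, Set.inter_eq_left.2 h3]
    rw [e, Set.preimage_union]
    refine (ih ⟨(Z : Set ↥U) ∩ z₁, Z.isClosed.inter h1⟩ ?_).union (ih ⟨(Z : Set ↥U) ∩ z₂, Z.isClosed.inter h2⟩ ?_)
    · refine lt_of_le_of_ne (fun x hx => hx.1) fun h => h4 ?_
      intro x hx
      rw [← h] at hx
      exact hx.2
    · refine lt_of_le_of_ne (fun x hx => hx.1) fun h => h5 ?_
      intro x hx
      rw [← h] at hx
      exact hx.2

/-- An étale separated morphism with finite geometric fibres to a Noetherian scheme has quasi-compact source. -/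
theorem compactSpace_of_etale {W U : Scheme.{u}} (g : W ⟶ U) [Etale g] [IsSeparated g] [NoetherianSpace ↥U]
    (hb : ∀ u : ↥U, ∃ n, u ∉ GE g n) : CompactSpace ↥W := by
  have := isCompact_preimage g hb ⊤
  rw [← isCompact_univ_iff]
  simpa using this

variable {S : Scheme.{u}}

/-- For `X` locally Noetherian and decent, `U ×_X V` is quasi-compact for `U`, `V` affine and étale over `X`. -/
theorem compactSpace_pullback {X : Sp S} (hN : IsLocNoethSp X) (hX : IsDecent X) {U V P : Over S}
    {a : (yon S).obj U ⟶ X} {b : (yon S).obj V ⟶ X} (ha : RepWith @Etale a) (hb : RepWith @Etale b)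
    {fst : P ⟶ U} {snd : P ⟶ V} [IsAffine U.left] [IsAffine V.left]
    (sq : IsPullback ((yon S).map fst) ((yon S).map snd) a b) : CompactSpace ↥P.left := by
  have h1 : IsLocallyNoetherian V.left := K621.Charts.isLocallyNoetherian_chart hN hb
  have h2 : IsNoetherian V.left := ⟨⟩
  have h3 : Etale snd.left := ha.2 _ _ _ sq
  have h4 : IsSeparated snd.left := (K609.Sep.repWith_isSeparated ha.1).2 _ _ _ sq
  refine compactSpace_of_etale snd.left fun v => ?_
  obtain ⟨n, hn⟩ := K617.Strat.exists_notMem_GEX a ha hX (Points.ofPt b v)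
  refine ⟨n, fun h => hn ?_⟩
  rw [← K617.Strat.preimage_GEX sq] at h
  exact h

/-- `X` is quasi-separated over `S` when `U ×_X V` is quasi-compact for all affine schemes étale over `X`. -/
theorem isQuasiSeparatedSp_of_affine_etale {X : Sp S} (hX : IsAlgSpace X)
    (h : ∀ (U V P : Over S) (a : (yon S).obj U ⟶ X) (b : (yon S).obj V ⟶ X)
      (fst : P ⟶ U) (snd : P ⟶ V), IsAffine U.left → IsAffine V.left → RepWith @Etale a → RepWith @Etale b →
      IsPullback ((yon S).map fst) ((yon S).map snd) a b → CompactSpace ↥P.left) :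
    IsQuasiSeparatedSp X := by
  obtain ⟨U, p, hp, hs⟩ := hX.atlas
  obtain ⟨R, t, s, sq⟩ := K609.Sep.exists_isPullback_yon hX.diag p p
  have := K609.Sep.quasiCompact_descendsAlong.{u}
  refine K609.Sep.repWith_diag_of_chart @QuasiCompact hX.diag (K609.Sep.repWith_fppf_of_etale hp hs) sq ?_
  let f : R.left ⟶ pullback U.hom U.hom := pullback.lift t.left s.left ((Over.w t).trans (Over.w s).symm)
  change QuasiCompact f
  -- the key compactness
  have key : ∀ (A B : U.left.Opens), IsAffineOpen A → IsAffineOpen B →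
      IsCompact (t.left ⁻¹' (A : Set ↥U.left) ∩ s.left ⁻¹' (B : Set ↥U.left)) := by
    intro A B hA hB
    let UA : Over S := Over.mk (A.ι ≫ U.hom)
    let UB : Over S := Over.mk (B.ι ≫ U.hom)
    let iA : UA ⟶ U := Over.homMk A.ι rfl
    let iB : UB ⟶ U := Over.homMk B.ι rfl
    have hiA : Etale iA.left := inferInstanceAs (Etale A.ι)
    have hiB : Etale iB.left := inferInstanceAs (Etale B.ι)
    obtain ⟨W, w₁, w₂, sqW⟩ := K609.Sep.exists_isPullback_yon hX.diag ((yon S).map iA ≫ p) ((yon S).map iB ≫ p)
    have hW : CompactSpace ↥W.left := h UA UB W _ _ w₁ w₂ hA hB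
      (K609.QC.repWith_yon_map_comp @Etale iA hiA hp) (K609.QC.repWith_yon_map_comp @Etale iB hiB hp) sqW
    obtain ⟨k, hk⟩ := (yon S).map_surjective (sq.lift ((yon S).map (w₁ ≫ iA)) ((yon S).map (w₂ ≫ iB)) (by
      rw [Functor.map_comp, Functor.map_comp, Category.assoc, Category.assoc, sqW.w]))
    have hk1 : k ≫ t = w₁ ≫ iA := (yon S).map_injective (by rw [Functor.map_comp, hk, sq.lift_fst])
    have hk2 : k ≫ s = w₂ ≫ iB := (yon S).map_injective (by rw [Functor.map_comp, hk, sq.lift_snd])
    have hrange : t.left ⁻¹' (A : Set ↥U.left) ∩ s.left ⁻¹' (B : Set ↥U.left) = Set.range k.left := by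
      ext r
      constructor
      · rintro ⟨hr1, hr2⟩
        let O : R.left.Opens := (t.left ⁻¹ᵁ A) ⊓ (s.left ⁻¹ᵁ B)
        let RO : Over S := Over.mk (O.ι ≫ R.hom)
        let iO : RO ⟶ R := Over.homMk O.ι rfl
        have hOA : Set.range (O.ι ≫ t.left) ⊆ Set.range A.ι := by
          rintro _ ⟨x, rfl⟩
          rw [Scheme.Opens.range_ι]
          exact x.2.1
        have hOB : Set.range (O.ι ≫ s.left) ⊆ Set.range B.ι := by
          rintro _ ⟨x, rfl⟩
          rw [Scheme.Opens.range_ι]
          exact x.2.2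
        let α : RO ⟶ UA := Over.homMk (IsOpenImmersion.lift A.ι (O.ι ≫ t.left) hOA) (by
          change IsOpenImmersion.lift A.ι (O.ι ≫ t.left) hOA ≫ A.ι ≫ U.hom = O.ι ≫ R.hom
          rw [← Category.assoc, IsOpenImmersion.lift_fac, Category.assoc, Over.w])
        let β : RO ⟶ UB := Over.homMk (IsOpenImmersion.lift B.ι (O.ι ≫ s.left) hOB) (by
          change IsOpenImmersion.lift B.ι (O.ι ≫ s.left) hOB ≫ B.ι ≫ U.hom = O.ι ≫ R.hom
          rw [← Category.assoc, IsOpenImmersion.lift_fac, Category.assoc, Over.w])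
        have hα : α ≫ iA = iO ≫ t := Over.OverMorphism.ext (IsOpenImmersion.lift_fac A.ι (O.ι ≫ t.left) hOA)
        have hβ : β ≫ iB = iO ≫ s := Over.OverMorphism.ext (IsOpenImmersion.lift_fac B.ι (O.ι ≫ s.left) hOB)
        obtain ⟨l, hl⟩ := (yon S).map_surjective (sqW.lift ((yon S).map α) ((yon S).map β) (by
          rw [← Category.assoc, ← Category.assoc, ← Functor.map_comp, ← Functor.map_comp, hα, hβ,
            Functor.map_comp, Functor.map_comp, Category.assoc, Category.assoc, sq.w]))
        have hl1 : l ≫ w₁ = α := (yon S).map_injective (by rw [Functor.map_comp, hl, sqW.lift_fst])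
        have hl2 : l ≫ w₂ = β := (yon S).map_injective (by rw [Functor.map_comp, hl, sqW.lift_snd])
        have hlk : l ≫ k = iO := by
          apply (yon S).map_injective
          apply sq.hom_ext
          · rw [← Functor.map_comp, ← Functor.map_comp, Category.assoc, hk1, ← Category.assoc, hl1, hα]
          · rw [← Functor.map_comp, ← Functor.map_comp, Category.assoc, hk2, ← Category.assoc, hl2, hβ]
        refine ⟨l.left ⟨r, hr1, hr2⟩, ?_⟩
        rw [← Scheme.Hom.comp_apply, ← Over.comp_left, hlk]
        rfl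
      · rintro ⟨x, rfl⟩
        constructor
        · change t.left (k.left x) ∈ A
          rw [← Scheme.Hom.comp_apply, ← Over.comp_left, hk1]
          exact (w₁.left x).2
        · change s.left (k.left x) ∈ B
          rw [← Scheme.Hom.comp_apply, ← Over.comp_left, hk2]
          exact (w₂.left x).2
    rw [hrange]
    exact isCompact_range k.left.continuous
  -- local on the target
  let 𝒰 := Scheme.Pullback.openCoverOfLeftRight U.left.affineCover U.left.affineCover U.hom U.hom
  refine (IsZariskiLocalAtTarget.iff_of_openCover (P := @QuasiCompact) 𝒰).2 fun k => ?_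
  change QuasiCompact (pullback.snd f (𝒰.f k))
  obtain ⟨i, j⟩ := k
  let c := U.left.affineCover
  have hqs : QuasiSeparatedSpace ↥(pullback (c.f i ≫ U.hom) (c.f j ≫ U.hom)) := by
    have h1 : IsSeparated (c.f j ≫ U.hom) := inferInstance
    exact quasiSeparatedSpace_of_quasiSeparated (pullback.fst (c.f i ≫ U.hom) (c.f j ≫ U.hom))
  have hqs' : QuasiSeparatedSpace ↥(𝒰.X (i, j)) := hqs
  have hr : Set.range (pullback.fst f (𝒰.f (i, j))) =
      t.left ⁻¹' ((c.f i).opensRange : Set ↥U.left) ∩ s.left ⁻¹' ((c.f j).opensRange : Set ↥U.left) := by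
    have h0 : Set.range (𝒰.f (i, j)) = pullback.fst U.hom U.hom ⁻¹' Set.range (c.f i) ∩
        pullback.snd U.hom U.hom ⁻¹' Set.range (c.f j) :=
      Scheme.Pullback.range_map (c.f i ≫ U.hom) (c.f j ≫ U.hom) U.hom U.hom (c.f i) (c.f j) (𝟙 _)
        (Category.comp_id _) (Category.comp_id _)
    have h1 : f ≫ pullback.fst U.hom U.hom = t.left := pullback.lift_fst _ _ _
    have h2 : f ≫ pullback.snd U.hom U.hom = s.left := pullback.lift_snd _ _ _
    refine (Scheme.Pullback.range_fst _ _).trans ((congrArg (fun A => f ⁻¹' A) h0).trans ?_)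
    rw [← h1, ← h2]
    rfl
  have hcomp : CompactSpace ↥(pullback f (𝒰.f (i, j))) := by
    have h1 := key _ _ (isAffineOpen_opensRange (c.f i)) (isAffineOpen_opensRange (c.f j))
    rw [← hr, ← Set.image_univ, ← (pullback.fst f (𝒰.f (i, j))).isEmbedding.isInducing.isCompact_iff] at h1
    exact isCompact_univ_iff.1 h1
  infer_instance

/-- Locally Noetherian decent algebraic spaces are quasi-separated. -/
theorem isQuasiSeparatedSp {X : Sp S} (hXa : IsAlgSpace X) (hN : IsLocNoethSp X) (hX : IsDecent X) :
    IsQuasiSeparatedSp X :=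
  isQuasiSeparatedSp_of_affine_etale hXa fun _ _ _ _ _ _ _ _ _ ha hb sq => compactSpace_pullback hN hX ha hb sq

end K618.QSepNoeth
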