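import Mathlib.Topology.KrullDimension
import Mathlib.Topology.Sober

/-!
# Dimension of topological spaces along maps lifting generalizations / without specializations in fibres
-/

set_option autoImplicit false
open Order Topology TopologicalSpace

namespace K618.TopDim

section Order

variable {α β : Type*} [Preorder α] [Preorder β]

/-- If larger elements lift along `f` then coheight does not go down on `α`. -/
theorem coheight_apply_le (f : α → β) (hf : Monotone f) (hl : ∀ (a : α) (b : β), f a < b → ∃ a', a ≤ a' ∧ f a' = b)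
    (a : α) : coheight (f a) ≤ coheight a := by
  have key : ∀ (n : ℕ) (a : α), coheight a ≤ n → coheight (f a) ≤ n := by
    intro n
    induction n with
    | zero =>
      intro a ha
      have ha' : coheight a = 0 := by simpa using ha
      rw [coheight_eq_zero] at ha'
      simp only [Nat.cast_zero, nonpos_iff_eq_zero, coheight_eq_zero]
      intro b hb
      by_contra hcon
      obtain ⟨a', h1, rfl⟩ := hl a b (lt_of_le_not_ge hb hcon)
      exact hcon (hf (ha' h1))
    | succ n ih =>
      intro a ha
      rw [coheight_le_coe_iff] at ha ⊢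
      intro b hb
      obtain ⟨a', h1, rfl⟩ := hl a b hb
      have h2 : a < a' := lt_of_le_not_ge h1 fun h => hb.not_ge (hf h)
      have h3 := ha a' h2
      have h4 : coheight a' ≤ n := by
        have : coheight a' < (n : ℕ∞) + 1 := by exact_mod_cast h3
        exact Order.le_of_lt_add_one this
      have h5 := ih a' h4
      refine lt_of_le_of_lt h5 ?_
      exact_mod_cast Nat.lt_succ_self n
  rcases eq_or_ne (coheight a) ⊤ with h | h
  · rw [h]; exact le_top
  · obtain ⟨n, hn⟩ := ENat.ne_top_iff_exists.1 h
    rw [← hn]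
    exact key n a hn.symm.le

theorem krullDim_le_of_lift (f : α → β) (hs : Function.Surjective f) (hf : Monotone f)
    (hl : ∀ (a : α) (b : β), f a < b → ∃ a', a ≤ a' ∧ f a' = b) : krullDim β ≤ krullDim α := by
  rw [krullDim_eq_iSup_coheight, krullDim_eq_iSup_coheight]
  refine iSup_le fun b => ?_
  obtain ⟨a, rfl⟩ := hs b
  exact (WithBot.coe_le_coe.2 (coheight_apply_le f hf hl a)).trans
    (le_iSup (fun a : α => ((coheight a : ℕ∞) : WithBot ℕ∞)) a)

end Order

variable {A B : Type*} [TopologicalSpace A] [TopologicalSpace B]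

/-- The irreducible closed subset `closure {x}`. -/
def cl (x : A) : IrreducibleCloseds A := ⟨closure {x}, isIrreducible_singleton.closure, isClosed_closure⟩

theorem cl_le_cl {x y : A} : cl x ≤ cl y ↔ y ⤳ x := specializes_iff_closure_subset.symm

attribute [local instance] specializationOrder in
theorem topologicalKrullDim_eq (A : Type*) [TopologicalSpace A] [QuasiSober A] [T0Space A] :
    topologicalKrullDim A = krullDim A := krullDim_eq_of_orderIso irreducibleSetEquivPoints

attribute [local instance] specializationOrder in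
/-- If `f` has no specializations in its fibres then `dim A ≤ dim B`. -/
theorem dim_le_of_fibres [QuasiSober A] [T0Space A] [T0Space B] (f : A → B) (hf : Continuous f)
    (h : ∀ x y : A, x ⤳ y → f x = f y → x = y) : topologicalKrullDim A ≤ topologicalKrullDim B := by
  rw [topologicalKrullDim_eq A]
  refine krullDim_le_of_strictMono (fun a => cl (f a)) ?_
  intro a b hab
  have h1 : b ⤳ a := hab.le
  rw [lt_iff_le_not_ge]
  refine ⟨cl_le_cl.2 (h1.map hf), fun h2 => ?_⟩
  have h3 : f a ⤳ f b := cl_le_cl.1 h2
  have h4 : f b = f a := ((h1.map hf).antisymm h3).eq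
  exact hab.ne' (h b a h1 h4)

attribute [local instance] specializationOrder in
/-- If `f` is surjective and generalizations lift along `f` then `dim B ≤ dim A`. -/
theorem dim_le_of_lift [QuasiSober A] [T0Space A] [QuasiSober B] (f : A → B) (hf : Continuous f)
    (hs : Function.Surjective f) (h : ∀ (a : A) (b : B), b ⤳ f a → ∃ a', a' ⤳ a ∧ f a' = b) :
    topologicalKrullDim B ≤ topologicalKrullDim A := by
  rw [topologicalKrullDim_eq A]
  refine krullDim_le_of_lift (fun a => cl (f a)) ?_ ?_ ?_
  · intro Z
    obtain ⟨b, hb⟩ := QuasiSober.sober Z.isIrreducible Z.isClosed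
    obtain ⟨a, rfl⟩ := hs b
    exact ⟨a, IrreducibleCloseds.ext hb.def⟩
  · intro a b hab
    exact cl_le_cl.2 (Specializes.map (show b ⤳ a from hab) hf)
  · intro a Z hZ
    obtain ⟨b, hb⟩ := QuasiSober.sober Z.isIrreducible Z.isClosed
    have hZ' : cl b = Z := IrreducibleCloseds.ext hb.def
    subst hZ'
    obtain ⟨a', h1, rfl⟩ := h a b (cl_le_cl.1 hZ.le)
    exact ⟨a', h1, rfl⟩

/-- Equality of dimensions, on open subsets. -/
theorem dim_image_eq [QuasiSober A] [T0Space A] [QuasiSober B] [T0Space B] (f : A → B) (hf : Continuous f)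
    (ho : IsOpenMap f) (h : ∀ x y : A, x ⤳ y → f x = f y → x = y)
    (hl : ∀ (a : A) (b : B), b ⤳ f a → ∃ a', a' ⤳ a ∧ f a' = b) (V : Set A) (hV : IsOpen V) :
    topologicalKrullDim V = topologicalKrullDim (f '' V) := by
  have h1 : QuasiSober V := hV.isOpenEmbedding_subtypeVal.quasiSober
  have h2 : QuasiSober (f '' V) := (ho V hV).isOpenEmbedding_subtypeVal.quasiSober
  let g : V → f '' V := fun x => ⟨f x, x, x.2, rfl⟩
  have hg : Continuous g := by fun_prop
  refine le_antisymm (dim_le_of_fibres g hg ?_) (dim_le_of_lift g hg ?_ ?_)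
  · intro x y hxy he
    exact Subtype.ext (h x y ((subtype_specializes_iff _ _).1 hxy) (congrArg Subtype.val he))
  · rintro ⟨_, x, hx, rfl⟩
    exact ⟨⟨x, hx⟩, rfl⟩
  · intro a b hb
    obtain ⟨a', h3, h4⟩ := hl a b ((subtype_specializes_iff _ _).1 hb)
    exact ⟨⟨a', h3.mem_open hV a.2⟩, (subtype_specializes_iff _ _).2 h3, Subtype.ext h4⟩

end K618.TopDim
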